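import Mathlib
import Groth.Agent.Lib.Amitsur12.Basic

/-! Amitsur exactness with coefficients in a module over the base. -/

set_option autoImplicit false
set_option linter.style.haveILetI false
universe u

open TensorProduct

namespace Groth.Agent.RigLift7

variable {A B₀ F : Type u} [CommRing A] [CommRing B₀] [CommRing F] [Algebra A B₀] [Algebra B₀ F] [Algebra A F]
  [IsScalarTower A B₀ F] {M : Type u} [AddCommGroup M] [Module A M]

section

variable {X Y : Type u} [CommRing X] [CommRing Y] [Algebra B₀ X] [Algebra B₀ Y] [Algebra A X] [Algebra A Y]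
  [IsScalarTower A B₀ X] [IsScalarTower A B₀ Y]

/-- Tensor with a base changed module. -/
noncomputable def cb (B₀ : Type u) [CommRing B₀] [Algebra A B₀] (X : Type u) [CommRing X] [Algebra B₀ X] [Algebra A X] [IsScalarTower A B₀ X] :
    X ⊗[A] M ≃ₗ[B₀] X ⊗[B₀] (B₀ ⊗[A] M) :=
  (AlgebraTensorModule.cancelBaseChange A B₀ B₀ X M).symm

theorem cb_tmul (x : X) (m : M) : cb (A := A) B₀ X (x ⊗ₜ[A] m) = x ⊗ₜ[B₀] ((1 : B₀) ⊗ₜ[A] m) := by
  simp [cb]

theorem cb_nat (f : X →ₐ[B₀] Y) (t : X ⊗[A] M) :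
    cb B₀ Y ((f.toLinearMap.restrictScalars A).rTensor M t) = f.toLinearMap.rTensor (B₀ ⊗[A] M) (cb B₀ X t) := by
  induction t using TensorProduct.induction_on with
  | zero => simp
  | tmul x m => rw [LinearMap.rTensor_tmul, cb_tmul, cb_tmul, LinearMap.rTensor_tmul]; rfl
  | add a b ha hb => simp only [map_add, ha, hb]

theorem comm_cb_nat (f : X →ₐ[B₀] Y) (t : X ⊗[A] M) :
    TensorProduct.comm B₀ Y (B₀ ⊗[A] M) (cb B₀ Y ((f.toLinearMap.restrictScalars A).rTensor M t)) =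
      f.toLinearMap.lTensor (B₀ ⊗[A] M) (TensorProduct.comm B₀ X (B₀ ⊗[A] M) (cb B₀ X t)) := by
  rw [cb_nat]
  induction cb B₀ X t using TensorProduct.induction_on with
  | zero => simp
  | tmul x m => simp
  | add a b ha hb => simp only [map_add, ha, hb]

end

variable (B₀ F) [Module.FaithfullyFlat B₀ F]

/-- The two coprojections. -/
noncomputable def i1 : F →ₐ[B₀] F ⊗[B₀] F := Algebra.TensorProduct.includeLeft
/-- The two coprojections. -/
noncomputable def i2 : F →ₐ[B₀] F ⊗[B₀] F := Algebra.TensorProduct.includeRight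
/-- Faces. -/
noncomputable def p23 : F ⊗[B₀] F →ₐ[B₀] F ⊗[B₀] (F ⊗[B₀] F) := Algebra.TensorProduct.includeRight
/-- Faces. -/
noncomputable def p13 : F ⊗[B₀] F →ₐ[B₀] F ⊗[B₀] (F ⊗[B₀] F) :=
  Algebra.TensorProduct.map (AlgHom.id B₀ F) Algebra.TensorProduct.includeRight
/-- Faces. -/
noncomputable def p12 : F ⊗[B₀] F →ₐ[B₀] F ⊗[B₀] (F ⊗[B₀] F) :=
  Algebra.TensorProduct.map (AlgHom.id B₀ F) Algebra.TensorProduct.includeLeft

variable {B₀ F}

theorem exact0 (t : F ⊗[A] M)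
    (h : ((i2 B₀ F).toLinearMap.restrictScalars A).rTensor M t = ((i1 B₀ F).toLinearMap.restrictScalars A).rTensor M t) :
    ∃ n : B₀ ⊗[A] M, ((Algebra.ofId B₀ F).toLinearMap.restrictScalars A).rTensor M n = t := by
  let N := B₀ ⊗[A] M
  let d := TensorProduct.mk B₀ F (F ⊗[B₀] N) 1 - LinearMap.lTensor F (TensorProduct.mk B₀ F N 1)
  have e : ∀ x : F ⊗[B₀] N, d x = TensorProduct.assoc B₀ F F N
      ((i2 B₀ F).toLinearMap.rTensor N x - (i1 B₀ F).toLinearMap.rTensor N x) := by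
    intro x
    induction x using TensorProduct.induction_on with
    | zero => simp
    | tmul a n => simp [d, i1, i2, map_sub]
    | add x y hx hy => rw [map_add, hx, hy, ← map_add]; congr 1; simp only [map_add]; abel
  obtain ⟨n, hn⟩ := ((Amitsur12.exact_zero B₀ F N) (cb B₀ F t)).1 (by
    show d (cb B₀ F t) = 0
    rw [e, ← cb_nat, ← cb_nat, h, sub_self, map_zero])
  refine ⟨n, (cb (M := M) B₀ F).injective ?_⟩
  rw [← hn, cb_nat]
  clear hn
  induction n using TensorProduct.induction_on with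
  | zero => simp
  | tmul b m =>
    rw [cb_tmul, LinearMap.rTensor_tmul, TensorProduct.mk_apply]
    show algebraMap B₀ F b ⊗ₜ[B₀] ((1 : B₀) ⊗ₜ[A] m) = (1 : F) ⊗ₜ[B₀] (b ⊗ₜ[A] m)
    rw [Algebra.algebraMap_eq_smul_one, TensorProduct.smul_tmul, TensorProduct.smul_tmul', smul_eq_mul, mul_one]
  | add a b ha hb => simp only [map_add, ha, hb]

theorem exact1 (t : (F ⊗[B₀] F) ⊗[A] M)
    (h : ((p23 B₀ F).toLinearMap.restrictScalars A).rTensor M t - ((p13 B₀ F).toLinearMap.restrictScalars A).rTensor M t +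
      ((p12 B₀ F).toLinearMap.restrictScalars A).rTensor M t = 0) :
    ∃ v : F ⊗[A] M, ((i2 B₀ F).toLinearMap.restrictScalars A).rTensor M v -
      ((i1 B₀ F).toLinearMap.restrictScalars A).rTensor M v = t := by
  let c := fun (X : Type u) [CommRing X] [Algebra B₀ X] [Algebra A X] [IsScalarTower A B₀ X] (t : X ⊗[A] M) =>
    TensorProduct.comm B₀ X (B₀ ⊗[A] M) (cb B₀ X t)
  obtain ⟨z, hz⟩ := ((Amitsur12.exact_one B₀ F (B₀ ⊗[A] M)) (c (F ⊗[B₀] F) t)).1 (by
    have := congrArg (c (F ⊗[B₀] (F ⊗[B₀] F))) h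
    simp only [c, map_sub, map_add, map_zero, comm_cb_nat] at this
    exact this)
  refine ⟨(cb B₀ F).symm ((TensorProduct.comm B₀ F (B₀ ⊗[A] M)).symm z),
    (cb B₀ (F ⊗[B₀] F)).injective ((TensorProduct.comm B₀ (F ⊗[B₀] F) (B₀ ⊗[A] M)).injective ?_)⟩
  rw [map_sub, map_sub, comm_cb_nat, comm_cb_nat, LinearEquiv.apply_symm_apply, LinearEquiv.apply_symm_apply]
  exact hz

end Groth.Agent.RigLift7
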