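import Groth.Agent.Lib.RigLift7.Main

/-! Assembly. -/

set_option autoImplicit false
set_option linter.style.haveILetI false
universe u

open TensorProduct

namespace Groth.Agent.RigLift7

variable {A : Type u} [CommRing A] {I J : Ideal A}

theorem finiteType_of_pres {B B₀ : Type u} [CommRing B] [CommRing B₀] [Algebra A B] [Algebra A B₀]
    [Algebra.FiniteType A B₀] (hJ : IsNilpotent J) (β : Pres J B B₀) : Algebra.FiniteType A B := by
  obtain ⟨n, f, hf⟩ := Algebra.FiniteType.iff_quotient_mvPolynomial''.1 (inferInstance : Algebra.FiniteType A B₀)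
  choose l hl using fun i => β.surj (f (MvPolynomial.X i))
  let F : MvPolynomial (Fin n) A →ₐ[A] B := MvPolynomial.aeval l
  have hF : β.π.comp F = f := MvPolynomial.algHom_ext fun i => by simp [F, hl]
  refine Algebra.FiniteType.of_surjective F (surjective_of_mod hJ F fun b => ?_)
  obtain ⟨p, hp⟩ := hf (β.π b)
  exact ⟨p, (β.mem_iff _).2 (by rw [map_sub, ← hp, ← hF]; exact sub_self _)⟩

/-- Étale away from `I`, tested on a localisation. -/
theorem etale_away_of_rig {B : Type u} [CommRing B] [Algebra A B] (hB : Rig I B) {a : A} (ha : a ∈ I) :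
    Algebra.Etale A (Localization.Away (algebraMap A B a)) := by
  let U := Localization.Away a
  have hU : I.map (algebraMap A U) = ⊤ :=
    Ideal.eq_top_of_isUnit_mem _ (Ideal.mem_map_of_mem _ ha) (IsLocalization.Away.algebraMap_isUnit a)
  haveI := hB U hU
  haveI : Algebra.Etale A U := Algebra.Etale.of_isLocalizationAway a
  haveI : Algebra.Etale A (U ⊗[A] B) := Algebra.Etale.comp A U (U ⊗[A] B)
  exact Algebra.Etale.of_equiv ((Algebra.TensorProduct.comm A U B).trans
    ((IsLocalization.Away.tensorEquiv B a U).restrictScalars A))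

theorem exists_lift_of_approximation [IsNoetherianRing A] (hJ : IsNilpotent J) (C : Type u) [CommRing C]
    [Algebra A C] (hC : ∀ a ∈ I, Algebra.Etale A (Localization.Away (algebraMap A C a)))
    (B₀ : Type u) [CommRing B₀] [Algebra A B₀] [Algebra (A ⧸ J) B₀] [IsScalarTower A (A ⧸ J) B₀]
    [Algebra.FiniteType (A ⧸ J) B₀] (hB₀ : ∀ a ∈ I, Algebra.Etale (A ⧸ J) (Localization.Away (algebraMap A B₀ a)))
    [Algebra B₀ (C ⧸ J.map (algebraMap A C))] [IsScalarTower A B₀ (C ⧸ J.map (algebraMap A C))]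
    [Algebra.Etale B₀ (C ⧸ J.map (algebraMap A C))]
    (hsur : ∀ c : C ⧸ J.map (algebraMap A C), ∃ b : B₀,
      algebraMap B₀ (C ⧸ J.map (algebraMap A C)) b - c ∈ I.map (algebraMap A (C ⧸ J.map (algebraMap A C))))
    (hinj : ∀ b : B₀, algebraMap B₀ (C ⧸ J.map (algebraMap A C)) b ∈
      I.map (algebraMap A (C ⧸ J.map (algebraMap A C))) → b ∈ I.map (algebraMap A B₀)) :
    ∃ (B : Type u) (_ : CommRing B) (_ : Algebra A B) (_ : Algebra B C) (_ : IsScalarTower A B C) (_ : Algebra B B₀)
      (_ : IsScalarTower A B B₀),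
      Algebra.FiniteType A B ∧ Algebra.Etale B C ∧ (∀ a ∈ I, Algebra.Etale A (Localization.Away (algebraMap A B a))) ∧
      Function.Surjective (algebraMap B B₀) ∧ RingHom.ker (algebraMap B B₀) = J.map (algebraMap A B) ∧
      ∀ b : B, algebraMap B₀ (C ⧸ J.map (algebraMap A C)) (algebraMap B B₀ b) =
        Ideal.Quotient.mk (J.map (algebraMap A C)) (algebraMap B C b) := by
  classical
  obtain ⟨s, hs⟩ := IsNoetherian.noetherian I
  have hs' : Ideal.span (↑s : Set A) = I := hs
  have hsI : ∀ a ∈ (↑s : Set A), a ∈ I := fun a ha => hs' ▸ Ideal.subset_span ha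
  let C₀ := C ⧸ J.map (algebraMap A C)
  let E₀ := ∀ a : (↑s : Set A), Localization.Away (algebraMap A B₀ (a : A))
  haveI : ∀ a : (↑s : Set A), Algebra.Etale B₀ (Localization.Away (algebraMap A B₀ (a : A))) :=
    fun a => Algebra.Etale.of_isLocalizationAway (algebraMap A B₀ (a : A))
  haveI : ∀ a : (↑s : Set A), Algebra.Etale (A ⧸ J) (Localization.Away (algebraMap A B₀ (a : A))) :=
    fun a => hB₀ a (hsI a a.2)
  haveI : Finite (↑s : Set A) := s.finite_toSet.to_subtype
  haveI : Algebra.Etale (A ⧸ J) E₀ := inferInstance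
  haveI : Algebra.Etale B₀ E₀ := inferInstance
  haveI : IsScalarTower A (A ⧸ J) E₀ := inferInstance
  haveI : IsScalarTower A B₀ E₀ := inferInstance
  obtain ⟨E, iE, aE, hE, ⟨PE⟩⟩ := exists_etale_lift (J := J) E₀
  let PC : Pres J C C₀ := ⟨Ideal.Quotient.mkₐ A _, Ideal.Quotient.mk_surjective, Ideal.mk_ker⟩
  have hRigC : Rig I C := rig_of_gens I (↑s : Set A) hs' C fun a ha => hC a (hsI a ha)
  have hE₀top : ∀ x : E₀, x ∈ I.map (algebraMap A E₀) := by
    intro x
    rw [← Finset.univ_sum_single x]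
    refine Ideal.sum_mem _ fun a _ => ?_
    obtain ⟨v, hv⟩ : IsUnit (algebraMap A (Localization.Away (algebraMap A B₀ (a : A))) (a : A)) := by
      rw [IsScalarTower.algebraMap_apply A B₀ (Localization.Away (algebraMap A B₀ (a : A)))]
      exact IsLocalization.Away.algebraMap_isUnit _
    have e : (Pi.single a (x a) : E₀) = algebraMap A E₀ (a : A) * Pi.single a ((↑v⁻¹ : Localization.Away (algebraMap A B₀ (a : A))) * x a) := by
      funext b
      show (Pi.single a (x a) : E₀) b = algebraMap A (Localization.Away (algebraMap A B₀ (b : A))) (a : A) *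
        (Pi.single a ((↑v⁻¹ : Localization.Away (algebraMap A B₀ (a : A))) * x a) : E₀) b
      by_cases hb : b = a
      · subst hb
        rw [Pi.single_eq_same, Pi.single_eq_same]
        rw [← hv, ← mul_assoc, Units.mul_inv, one_mul]
      · rw [Pi.single_eq_of_ne hb, Pi.single_eq_of_ne hb, mul_zero]
    rw [e]
    exact Ideal.mul_mem_right _ _ (Ideal.mem_map_of_mem _ (hsI a a.2))
  have hF : SurjMod I B₀ (C₀ × E₀) := by
    rintro ⟨c, x⟩
    obtain ⟨b, hb⟩ := hsur c
    refine ⟨b, ?_⟩
    have h1 := map_mem_map I (LinearMap.inl A C₀ E₀) (neg_mem hb)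
    have h2 := map_mem_map I (LinearMap.inr A C₀ E₀) (hE₀top (x - algebraMap B₀ E₀ b))
    convert add_mem h1 h2 using 1
    ext <;> simp
    rfl
  haveI : Module.FaithfullyFlat B₀ (C₀ × E₀) := faithfullyFlat_cover (↑s : Set A) hs' hsur hinj fun a ha p hp => by
    have : p ∈ Set.range (PrimeSpectrum.comap (algebraMap B₀ (Localization.Away (algebraMap A B₀ a)))) := by
      rw [PrimeSpectrum.localization_away_comap_range (Localization.Away (algebraMap A B₀ a)) (algebraMap A B₀ a)]
      exact hp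
    obtain ⟨q, rfl⟩ := this
    exact ⟨PrimeSpectrum.comap (Pi.evalRingHom (fun a : (↑s : Set A) => Localization.Away (algebraMap A B₀ (a : A))) ⟨a, ha⟩) q, rfl⟩
  obtain ⟨B, hdesc, hsurj, hpure, hgr⟩ := exists_glue (↑s : Set A) hs' (fun a ha => hB₀ a (hsI a ha)) hJ hinj hF PC PE
    (rig_prod hRigC (rig_of_etale I E))
  let PF := PC.prod PE
  let ι₀ : B₀ →ₐ[A] C₀ × E₀ := (Algebra.ofId B₀ (C₀ × E₀)).restrictScalars A
  have hι : Function.Injective ι₀ := FaithfulSMul.algebraMap_injective B₀ (C₀ × E₀)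
  choose β hβ using hdesc
  let βh : B →ₐ[A] B₀ :=
    { toFun := β
      map_one' := hι (by rw [map_one]; exact ((hβ 1).symm.trans (map_one PF.π)))
      map_mul' := fun x y => hι (by
        rw [map_mul]; exact (hβ (x * y)).symm.trans ((map_mul PF.π _ _).trans (congrArg₂ (· * ·) (hβ x) (hβ y))))
      map_zero' := hι (by rw [map_zero]; exact ((hβ 0).symm.trans (map_zero PF.π)))
      map_add' := fun x y => hι (by
        rw [map_add]; exact (hβ (x + y)).symm.trans ((map_add PF.π _ _).trans (congrArg₂ (· + ·) (hβ x) (hβ y))))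
      commutes' := fun a => hι ((hβ _).symm.trans ((PF.π.commutes a).trans (ι₀.commutes a).symm)) }
  let Pβ : Pres J B B₀ := ⟨βh, fun b₀ => (hsurj b₀).elim fun b hb => ⟨b, hι ((hβ b).symm.trans hb)⟩, by
    ext b
    rw [RingHom.mem_ker]
    constructor
    · intro hb
      have h1 : PF.π (b : C × E) = 0 := (hβ b).trans ((congrArg ι₀ hb).trans (map_zero _))
      have h2 := hpure 1 b (by rw [pow_one]; exact (PF.mem_iff _).2 h1)
      rwa [pow_one] at h2
    · intro hb
      exact hι ((hβ b).symm.trans (((PF.mem_iff _).1 (map_mem_map J B.val.toLinearMap hb)).trans (map_zero ι₀).symm))⟩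
  letI : Algebra B C := ((RingHom.fst C E).comp (B.val : B →+* C × E)).toAlgebra
  haveI : IsScalarTower A B C := IsScalarTower.of_algebraMap_eq fun a => rfl
  letI : Algebra B B₀ := (βh : B →+* B₀).toAlgebra
  haveI : IsScalarTower A B B₀ := IsScalarTower.of_algebraMap_eq fun a => (βh.commutes a).symm
  have hcompat : ∀ b : B, algebraMap B₀ C₀ (βh b) = Ideal.Quotient.mk _ (algebraMap B C b) := fun b =>
    (congrArg Prod.fst (hβ b)).symm
  haveI : Algebra.FiniteType A (A ⧸ J) := inferInstance
  haveI : Algebra.FiniteType A B₀ := Algebra.FiniteType.trans (S := A ⧸ J) inferInstance inferInstance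
  have hrig : Rig I B := rig_of_gens I (↑s : Set A) hs' B fun a ha => by
    haveI := hB₀ a (hsI a ha)
    refine etale_away (J := J) hJ Pβ a ((AlgHom.snd A C E).comp B.val)
      (((Pi.evalAlgHom A (fun a : (↑s : Set A) => Localization.Away (algebraMap A B₀ (a : A))) ⟨a, ha⟩)).comp PE.π)
      fun b => ?_
    exact congrFun (congrArg Prod.snd (hβ b)) ⟨a, ha⟩
  refine ⟨B, inferInstance, inferInstance, inferInstance, inferInstance, inferInstance, inferInstance,
    finiteType_of_pres hJ Pβ, etale_of_graded hJ Pβ hcompat PC rfl (fun k κ hκ => hgr k κ hκ),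
    fun a ha => etale_away_of_rig hrig ha, Pβ.surj, Pβ.ker, hcompat⟩

end Groth.Agent.RigLift7
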