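import Mathlib

/-! Lifting along nilpotent ideals for algebras that are étale away from an ideal. -/

set_option autoImplicit false
set_option linter.style.haveILetI false
universe u

open TensorProduct

namespace Groth.Agent.RigLift7

variable {A : Type u} [CommRing A]

/-- Images of ideals under algebra maps. -/
theorem map_mem_map {X Y : Type u} [CommRing X] [CommRing Y] [Algebra A X] [Algebra A Y] (K : Ideal A)
    (f : X →ₗ[A] Y) {x : X} (hx : x ∈ K.map (algebraMap A X)) : f x ∈ K.map (algebraMap A Y) := by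
  have h : ∀ {Z : Type u} [CommRing Z] [Algebra A Z] (z : Z),
      z ∈ K.map (algebraMap A Z) ↔ z ∈ K • (⊤ : Submodule A Z) := fun z => by
    rw [Ideal.smul_top_eq_map]; rfl
  rw [h] at hx ⊢
  have := Submodule.mem_map_of_mem (f := f) hx
  rw [Submodule.map_smul''] at this
  exact Submodule.smul_mono le_rfl le_top this

/-- Étaleness is local on the target. -/
theorem etale_of_span {R S : Type u} [CommRing R] [CommRing S] [Algebra R S] (s : Set S) (hs : Ideal.span s = ⊤)
    (h : ∀ r ∈ s, ∃ (T : Type u) (_ : CommRing T) (_ : Algebra S T) (_ : Algebra R T) (_ : IsScalarTower R S T),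
      IsLocalization.Away r T ∧ Algebra.Etale R T) : Algebra.Etale R S := by
  rw [← RingHom.etale_algebraMap]
  refine RingHom.Etale.ofLocalizationSpanTarget.ofIsLocalization RingHom.Etale.respectsIso _ s hs fun r => ?_
  obtain ⟨T, i1, i2, i3, i4, hl, he⟩ := h r.1 r.2
  refine ⟨T, i1, i2, hl, ?_⟩
  rw [← IsScalarTower.algebraMap_eq]
  exact RingHom.etale_algebraMap.2 he

/-- The unit ideal modulo a nilpotent ideal. -/
theorem top_of_sup_nilpotent {R : Type u} [CommRing R] {K Q : Ideal R} (hQ : IsNilpotent Q) (h : K ⊔ Q = ⊤) :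
    K = ⊤ := by
  obtain ⟨n, hn⟩ := hQ
  obtain ⟨k, hk, q, hq, e⟩ := Submodule.mem_sup.1 (h ▸ Submodule.mem_top : (1 : R) ∈ K ⊔ Q)
  have hq0 : q ^ n = 0 := by
    have : q ^ n ∈ Q ^ n := Ideal.pow_mem_pow hq n
    rw [hn] at this
    exact this
  obtain ⟨u, hu⟩ := (IsNilpotent.isUnit_one_sub ⟨n, hq0⟩).exists_right_inv
  rw [Ideal.eq_top_iff_one, ← hu]
  exact Ideal.mul_mem_right _ _ ((eq_sub_of_add_eq e) ▸ hk)

theorem isNilpotent_map {R S : Type u} [CommRing R] [CommRing S] (f : R →+* S) {J : Ideal R} (hJ : IsNilpotent J) :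
    IsNilpotent (J.map f) := by
  obtain ⟨n, hn⟩ := hJ
  exact ⟨n, by rw [← Ideal.map_pow, hn]; exact Ideal.map_bot⟩

/-- A map surjective modulo a nilpotent ideal of the base is surjective. -/
theorem surjective_of_mod {J : Ideal A} (hJ : IsNilpotent J) {X Y : Type u} [CommRing X] [CommRing Y] [Algebra A X]
    [Algebra A Y] (f : X →ₐ[A] Y) (h : ∀ y, ∃ x, y - f x ∈ J.map (algebraMap A Y)) : Function.Surjective f := by
  obtain ⟨m, hm⟩ := hJ
  have hstep : ∀ n : ℕ, ∀ y, ∃ x, y - f x ∈ (J ^ n).map (algebraMap A Y) := by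
    intro n
    induction n with
    | zero => intro y; exact ⟨0, by rw [pow_zero, Ideal.one_eq_top, Ideal.map_top]; trivial⟩
    | succ n ih =>
      intro y
      obtain ⟨x, hx⟩ := ih y
      suffices ∀ z ∈ (J ^ n).map (algebraMap A Y), ∃ x', z - f x' ∈ (J ^ (n + 1)).map (algebraMap A Y) by
        obtain ⟨x', hx'⟩ := this _ hx
        exact ⟨x + x', by rw [map_add, ← sub_sub]; exact hx'⟩
      intro z hz
      rw [Ideal.map] at hz
      induction hz using Submodule.span_induction with
      | mem z hz =>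
        obtain ⟨j, hj, rfl⟩ := hz
        exact ⟨algebraMap A X j, by rw [f.commutes, sub_self]; exact zero_mem _⟩
      | zero => exact ⟨0, by simp⟩
      | add a b _ _ ha hb =>
        obtain ⟨xa, ha⟩ := ha
        obtain ⟨xb, hb⟩ := hb
        exact ⟨xa + xb, by rw [map_add, add_sub_add_comm]; exact add_mem ha hb⟩
      | smul r a hr ha =>
        obtain ⟨xa, ha⟩ := ha
        obtain ⟨xr, hxr⟩ := h r
        refine ⟨xr * xa, ?_⟩
        have e : r • a - f (xr * xa) = (r - f xr) * a + f xr * (a - f xa) := by rw [smul_eq_mul, map_mul]; ring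
        rw [e]
        refine add_mem ?_ (Ideal.mul_mem_left _ _ ha)
        rw [pow_succ', Ideal.map_mul]
        exact Ideal.mul_mem_mul hxr hr
  intro y
  obtain ⟨x, hx⟩ := hstep m y
  rw [hm] at hx
  refine ⟨x, (sub_eq_zero.1 ?_).symm⟩
  simpa using hx

/-- Lifting maps out of a formally smooth algebra along a surjection with nilpotent kernel. -/
theorem exists_lift {R X Y S : Type u} [CommRing R] [CommRing X] [CommRing Y] [CommRing S] [Algebra R X] [Algebra R Y]
    [Algebra R S] [Algebra.FormallySmooth R X] (π : Y →ₐ[R] S) (hπ : Function.Surjective π)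
    (hn : IsNilpotent (RingHom.ker (π : Y →+* S))) (g : X →ₐ[R] S) : ∃ f : X →ₐ[R] Y, π.comp f = g := by
  let e := Ideal.quotientKerAlgEquivOfSurjective hπ
  obtain ⟨f, hf⟩ := Algebra.FormallySmooth.exists_lift (RingHom.ker (π : Y →+* S)) hn (e.symm.toAlgHom.comp g)
  refine ⟨f, AlgHom.ext fun x => ?_⟩
  have := congrArg e (DFunLike.congr_fun hf x)
  exact this.trans (e.apply_symm_apply (g x))

/-- An algebra which is étale away from `I`: its base change to any algebra in which `I` generates the unit
ideal is étale. -/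
def Rig (I : Ideal A) (X : Type u) [CommRing X] [Algebra A X] : Prop :=
  ∀ (U : Type u) [CommRing U] [Algebra A U], I.map (algebraMap A U) = ⊤ → Algebra.Etale U (U ⊗[A] X)

theorem rig_of_etale (I : Ideal A) (X : Type u) [CommRing X] [Algebra A X] [Algebra.Etale A X] : Rig I X :=
  fun _ _ _ _ => inferInstance

theorem rig_of_gens (I : Ideal A) (s : Set A) (hs : Ideal.span s = I) (X : Type u) [CommRing X] [Algebra A X]
    (h : ∀ a ∈ s, Algebra.Etale A (Localization.Away (algebraMap A X a))) : Rig I X := by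
  intro U _ _ hU
  refine etale_of_span ((fun a => Algebra.TensorProduct.includeRight (algebraMap A X a)) '' s) ?_ ?_
  · have h1 : Ideal.map (algebraMap A (U ⊗[A] X)) I = ⊤ := by
      rw [IsScalarTower.algebraMap_eq A U, ← Ideal.map_map, hU, Ideal.map_top]
    rw [← h1, ← hs, Ideal.map_span]
    refine congrArg _ (Set.image_congr fun a _ => ?_)
    exact AlgHom.commutes _ a
  · rintro _ ⟨a, ha, rfl⟩
    haveI := h a ha
    let f : U ⊗[A] X →ₐ[U] U ⊗[A] Localization.Away (algebraMap A X a) :=
      Algebra.TensorProduct.map (AlgHom.id U U) (IsScalarTower.toAlgHom A X _)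
    letI : Algebra (U ⊗[A] X) (U ⊗[A] Localization.Away (algebraMap A X a)) := f.toRingHom.toAlgebra
    haveI : IsScalarTower U (U ⊗[A] X) (U ⊗[A] Localization.Away (algebraMap A X a)) :=
      IsScalarTower.of_algebraMap_eq fun x => (f.commutes x).symm
    have := IsLocalization.tensorProduct_tensorProduct_right (R := A) (S := U) (Submonoid.powers (algebraMap A X a))
      (Localization.Away (algebraMap A X a)) (by
        ext x
        show f (1 ⊗ₜ x) = 1 ⊗ₜ algebraMap X _ x
        simp [f])
    rw [Submonoid.map_powers] at this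
    exact ⟨_, inferInstance, inferInstance, inferInstance, inferInstance, this, inferInstance⟩

theorem etale_prod {R X Y : Type u} [CommRing R] [CommRing X] [CommRing Y] [Algebra R X] [Algebra R Y]
    [Algebra.Etale R X] [Algebra.Etale R Y] : Algebra.Etale R (X × Y) := by
  let _ := (RingHom.fst X Y).toAlgebra
  let _ := (RingHom.snd X Y).toAlgebra
  haveI : IsScalarTower R (X × Y) X := IsScalarTower.of_algebraMap_eq fun _ => rfl
  haveI : IsScalarTower R (X × Y) Y := IsScalarTower.of_algebraMap_eq fun _ => rfl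
  refine etale_of_span {((1 : X), (0 : Y)), ((0 : X), (1 : Y))} ?_ ?_
  · rw [Ideal.eq_top_iff_one, show (1 : X × Y) = ((1 : X), (0 : Y)) + ((0 : X), (1 : Y)) by ext <;> simp]
    exact add_mem (Ideal.subset_span (by simp)) (Ideal.subset_span (by simp))
  · intro r hr
    rcases hr with rfl | rfl
    · refine ⟨X, inferInstance, inferInstance, inferInstance, inferInstance, ?_, inferInstance⟩
      refine IsLocalization.away_of_isIdempotentElem (Prod.ext (one_mul _) (zero_mul _)) ?_ Prod.fst_surjective
      ext ⟨a, b⟩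
      simp only [RingHom.mem_ker, Ideal.mem_span_singleton', RingHom.algebraMap_toAlgebra, RingHom.coe_fst]
      exact ⟨fun h => ⟨(0, b), by ext <;> simp [h]⟩, fun ⟨x, hx⟩ => (congrArg Prod.fst hx).symm.trans (by simp)⟩
    · refine ⟨Y, inferInstance, inferInstance, inferInstance, inferInstance, ?_, inferInstance⟩
      refine IsLocalization.away_of_isIdempotentElem (Prod.ext (zero_mul _) (one_mul _)) ?_ Prod.snd_surjective
      ext ⟨a, b⟩
      simp only [RingHom.mem_ker, Ideal.mem_span_singleton', RingHom.algebraMap_toAlgebra, RingHom.coe_snd]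
      exact ⟨fun h => ⟨(a, 0), by ext <;> simp [h]⟩, fun ⟨x, hx⟩ => (congrArg Prod.snd hx).symm.trans (by simp)⟩

theorem rig_prod {I : Ideal A} {X Y : Type u} [CommRing X] [CommRing Y] [Algebra A X] [Algebra A Y]
    (hX : Rig I X) (hY : Rig I Y) : Rig I (X × Y) := by
  intro U _ _ hU
  haveI := hX U hU
  haveI := hY U hU
  haveI : Algebra.Etale U ((U ⊗[A] X) × (U ⊗[A] Y)) := etale_prod
  exact Algebra.Etale.of_equiv (Algebra.TensorProduct.prodRight A U U X Y).symm

/-- Existence of lifts out of an algebra étale away from `I`. -/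
theorem Rig.exists_lift {I : Ideal A} {X : Type u} [CommRing X] [Algebra A X] (hX : Rig I X) {U S : Type u}
    [CommRing U] [CommRing S] [Algebra A U] [Algebra A S] (hU : I.map (algebraMap A U) = ⊤) (π : U →ₐ[A] S)
    (hπ : Function.Surjective π) (hn : IsNilpotent (RingHom.ker (π : U →+* S))) (g : X →ₐ[A] S) :
    ∃ f : X →ₐ[A] U, π.comp f = g := by
  haveI := hX U hU
  letI : Algebra U S := π.toRingHom.toAlgebra
  haveI : IsScalarTower A U S := IsScalarTower.of_algebraMap_eq fun a => (π.commutes a).symm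
  let g' : U ⊗[A] X →ₐ[U] S := Algebra.TensorProduct.lift (Algebra.ofId U S) g fun _ _ => Commute.all _ _
  obtain ⟨f, hf⟩ := RigLift7.exists_lift (Algebra.ofId U S) hπ hn
    (X := U ⊗[A] X) (Y := U) g'
  refine ⟨(f.restrictScalars A).comp Algebra.TensorProduct.includeRight, AlgHom.ext fun x => ?_⟩
  refine (DFunLike.congr_fun hf (1 ⊗ₜ x)).trans ?_
  simp [g']

/-- Uniqueness of lifts out of an algebra étale away from `I`. -/
theorem Rig.ext {I : Ideal A} {X : Type u} [CommRing X] [Algebra A X] (hX : Rig I X) {U S : Type u}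
    [CommRing U] [CommRing S] [Algebra A U] [Algebra A S] (hU : I.map (algebraMap A U) = ⊤) (π : U →ₐ[A] S)
    (hn : IsNilpotent (RingHom.ker (π : U →+* S))) {f g : X →ₐ[A] U} (h : π.comp f = π.comp g) : f = g := by
  haveI := hX U hU
  letI : Algebra U S := π.toRingHom.toAlgebra
  haveI : IsScalarTower A U S := IsScalarTower.of_algebraMap_eq fun a => (π.commutes a).symm
  let L : (X →ₐ[A] U) → (U ⊗[A] X →ₐ[U] U) := fun f =>
    Algebra.TensorProduct.lift (AlgHom.id U U) f fun _ _ => Commute.all _ _
  have e : L f = L g := Algebra.FormallyUnramified.lift_unique' (Algebra.ofId U S) hn _ _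
    (Algebra.TensorProduct.ext (AlgHom.ext fun x => by simp [L]) (AlgHom.ext fun x => by
      show π (L f (1 ⊗ₜ x)) = π (L g (1 ⊗ₜ x))
      simpa [L] using DFunLike.congr_fun h x))
  refine AlgHom.ext fun x => ?_
  simpa [L] using DFunLike.congr_fun e (1 ⊗ₜ x)

end Groth.Agent.RigLift7
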