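import Groth.Agent.Lib.RigLift7.Thick

/-! The equalizer of two lifts, abstractly. -/

set_option autoImplicit false
set_option linter.style.haveILetI false
universe u

open TensorProduct

namespace Groth.Agent.RigLift7

variable {A : Type u} [CommRing A] {J : Ideal A} {B₀ F F' R X R3 X3 C₀ : Type u} [CommRing B₀] [CommRing F]
  [CommRing F'] [CommRing R] [CommRing X] [CommRing R3] [CommRing X3] [AddCommGroup C₀] [Algebra A B₀] [Algebra A F]
  [Algebra A F'] [Algebra A R] [Algebra A X] [Algebra A R3] [Algebra A X3] [Module A C₀]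

theorem exists_equalizer (hJ : IsNilpotent J) (PF : Pres J F' F) (PR : Pres J X R) (PR3 : Pres J X3 R3)
    (ι₀ : B₀ →ₐ[A] F) (i1 i2 : F →ₗ[A] R) (p1 p2 p3 : R →ₗ[A] R3) (M : R →ₗ[A] C₀) (M3 : R3 →ₗ[A] C₀)
    (hι : ∀ b, i2 (ι₀ b) = i1 (ι₀ b)) (hM : M.comp i2 = M.comp i1)
    (h1 : M3.comp p1 = M) (h2 : M3.comp p2 = M) (h3 : M3.comp p3 = M)
    (S T : F' →ₐ[A] X) (hS : ∀ x, PR.π (S x) = i1 (PF.π x)) (hT : ∀ x, PR.π (T x) = i2 (PF.π x))
    (P1 P2 P3 : X →ₐ[A] X3) (hP1 : ∀ x, PR3.π (P1 x) = p1 (PR.π x)) (hP2 : ∀ x, PR3.π (P2 x) = p2 (PR.π x))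
    (hP3 : ∀ x, PR3.π (P3 x) = p3 (PR.π x))
    (hcoc : ∀ x, P1 (T x - S x) - P2 (T x - S x) + P3 (T x - S x) = 0)
    (zeroR : ∀ (k : ℕ) (t : R ⊗[A] ↥(J ^ k)), M.rTensor _ t = 0 → PR.gr k t = 0 → t = 0)
    (zero3 : ∀ (k : ℕ) (t : R3 ⊗[A] ↥(J ^ k)), M3.rTensor _ t = 0 → PR3.gr k t = 0 → t = 0)
    (hlift : ∀ (k : ℕ) (y : F'), T y - S y ∈ (J ^ k).map (algebraMap A X) →
      ∃ u : R ⊗[A] ↥(J ^ k), PR.gr k u = Ideal.Quotient.mk _ (T y - S y) ∧ M.rTensor _ u = 0)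
    (ex : ∀ f : F, i2 f = i1 f → ∃ b, ι₀ b = f)
    (ex0 : ∀ (k : ℕ) (t : F ⊗[A] ↥(J ^ k)), i2.rTensor _ t = i1.rTensor _ t →
      ∃ n : B₀ ⊗[A] ↥(J ^ k), ι₀.toLinearMap.rTensor _ n = t)
    (ex1 : ∀ (k : ℕ) (t : R ⊗[A] ↥(J ^ k)), p1.rTensor _ t - p2.rTensor _ t + p3.rTensor _ t = 0 →
      ∃ v : F ⊗[A] ↥(J ^ k), i2.rTensor _ v - i1.rTensor _ v = t) :
    ∃ B : Subalgebra A F', (∀ b : B, ∃ b₀ : B₀, PF.π b = ι₀ b₀) ∧ (∀ b₀ : B₀, ∃ b : B, PF.π b = ι₀ b₀) ∧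
      (∀ (k : ℕ) (b : B), (b : F') ∈ (J ^ k).map (algebraMap A F') → b ∈ (J ^ k).map (algebraMap A B)) ∧
      ∀ (k : ℕ) (v : F ⊗[A] ↥(J ^ k)), PF.gr k v = 0 →
        ∃ n : B ⊗[A] ↥(J ^ k), (PF.π.comp B.val).toLinearMap.rTensor _ n = v ∧
          mu J k B n ∈ (J ^ (k + 1)).map (algebraMap A B) := by
  have hd : ∀ (k : ℕ) (v : F ⊗[A] ↥(J ^ k)) (y : F'), PF.gr k v = Ideal.Quotient.mk _ y →
      PR.gr k (i2.rTensor _ v - i1.rTensor _ v) = Ideal.Quotient.mk _ (T y - S y) := by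
    intro k v y hv
    rw [map_sub, map_sub, PF.gr_nat k PR T i2 hT v y hv, PF.gr_nat k PR S i1 hS v y hv]
  have hmd : ∀ (k : ℕ) (v : F ⊗[A] ↥(J ^ k)), M.rTensor _ (i2.rTensor _ v - i1.rTensor _ v) = 0 := by
    intro k v
    rw [map_sub, ← LinearMap.rTensor_comp_apply, ← LinearMap.rTensor_comp_apply, hM, sub_self]
  let B := AlgHom.equalizer T S
  have hi : ∀ b : B, T b - S b = 0 := fun b => sub_eq_zero.2 b.2
  have hdesc : ∀ b : B, ∃ b₀ : B₀, PF.π b = ι₀ b₀ := fun b => by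
    obtain ⟨b₀, hb⟩ := ex (PF.π b) (by rw [← hT, ← hS, b.2])
    exact ⟨b₀, hb.symm⟩
  have hsurj : ∀ b₀ : B₀, ∃ b : B, PF.π b = ι₀ b₀ := by
    intro b₀
    obtain ⟨n, hn⟩ := hJ
    have hstep : ∀ k, 1 ≤ k → ∃ x : F', PF.π x = ι₀ b₀ ∧ T x - S x ∈ (J ^ k).map (algebraMap A X) := by
      intro k hk
      induction k, hk using Nat.le_induction with
      | base =>
        obtain ⟨x, hx⟩ := PF.surj (ι₀ b₀)
        refine ⟨x, hx, ?_⟩
        rw [pow_one, PR.mem_iff, map_sub, hT, hS, hx, hι, sub_self]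
      | succ k hk ih =>
        obtain ⟨x, hx, hxk⟩ := ih
        obtain ⟨u, hu, hMu⟩ := hlift k x hxk
        obtain ⟨v, hv⟩ := ex1 k u (zero3 k _
          (by rw [map_add, map_sub, ← LinearMap.rTensor_comp_apply, ← LinearMap.rTensor_comp_apply,
            ← LinearMap.rTensor_comp_apply, h1, h2, h3, hMu, sub_zero, add_zero])
          (by rw [map_add, map_sub, PR.gr_nat k PR3 P1 p1 hP1 u _ hu, PR.gr_nat k PR3 P2 p2 hP2 u _ hu,
              PR.gr_nat k PR3 P3 p3 hP3 u _ hu, ← map_sub, ← map_add, hcoc, map_zero]))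
        obtain ⟨v', hv'⟩ := PF.exists_tilde k v
        have hgv : PF.gr k v = Ideal.Quotient.mk _ (mu J k F' v') := by rw [← hv', PF.gr_rTensor]
        refine ⟨x - mu J k F' v', ?_, ?_⟩
        · rw [map_sub, hx, sub_eq_self, ← PF.mem_iff]
          exact Ideal.map_mono (Ideal.pow_le_self (by omega)) (mu_mem k v')
        · have h := hd k v _ hgv
          rw [hv, hu, Ideal.Quotient.eq] at h
          rw [map_sub, map_sub, show T x - T (mu J k F' v') - (S x - S (mu J k F' v')) =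
            (T x - S x) - (T (mu J k F' v') - S (mu J k F' v')) by abel]
          exact h
    obtain ⟨x, hx, hxn⟩ := hstep (n + 1) (by omega)
    rw [pow_succ, hn, zero_mul, Ideal.zero_eq_bot, Ideal.map_bot, Ideal.mem_bot, sub_eq_zero] at hxn
    exact ⟨⟨x, hxn⟩, hx⟩
  have hgrad : ∀ (k : ℕ) (v : F ⊗[A] ↥(J ^ k)) (y : F'), PF.gr k v = Ideal.Quotient.mk _ y →
      T y - S y ∈ (J ^ (k + 1)).map (algebraMap A X) →
      ∃ n : B ⊗[A] ↥(J ^ k), (PF.π.comp B.val).toLinearMap.rTensor _ n = v ∧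
        (mu J k B n : F') - y ∈ (J ^ (k + 1)).map (algebraMap A F') := by
    intro k v y hv hy
    have hz := zeroR k _ (hmd k v) (by rw [hd k v y hv, Ideal.Quotient.eq_zero_iff_mem]; exact hy)
    obtain ⟨n₀, hn₀⟩ := ex0 k v (sub_eq_zero.1 hz)
    have hsurj' : ∀ n₀ : B₀ ⊗[A] ↥(J ^ k), ∃ n : B ⊗[A] ↥(J ^ k),
        (PF.π.comp B.val).toLinearMap.rTensor _ n = ι₀.toLinearMap.rTensor _ n₀ := by
      intro n₀
      induction n₀ using TensorProduct.induction_on with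
      | zero => exact ⟨0, by simp⟩
      | tmul b j =>
        obtain ⟨b', hb'⟩ := hsurj b
        refine ⟨b' ⊗ₜ j, ?_⟩
        rw [LinearMap.rTensor_tmul, LinearMap.rTensor_tmul]
        exact congrArg (· ⊗ₜ[A] j) hb'
      | add a b ha hb =>
        obtain ⟨na, ha⟩ := ha
        obtain ⟨nb, hb⟩ := hb
        exact ⟨na + nb, by rw [map_add, ha, hb, map_add]⟩
    obtain ⟨n, hn⟩ := hsurj' n₀
    have hn' := hn.trans hn₀
    refine ⟨n, hn', ?_⟩
    rw [← Ideal.Quotient.eq, ← hv, ← hn']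
    rw [show (PF.π.comp B.val).toLinearMap = PF.π.toLinearMap ∘ₗ B.val.toLinearMap from rfl,
      LinearMap.rTensor_comp_apply, PF.gr_rTensor, ← mu_nat]
    rfl
  have hpure : ∀ (k : ℕ) (b : B), (b : F') ∈ (J ^ k).map (algebraMap A F') → b ∈ (J ^ k).map (algebraMap A B) := by
    obtain ⟨n, hn⟩ := hJ
    have key : ∀ (d k : ℕ), n ≤ k + d → ∀ b : B, (b : F') ∈ (J ^ k).map (algebraMap A F') →
        b ∈ (J ^ k).map (algebraMap A B) := by
      intro d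
      induction d with
      | zero =>
        intro k hk b hb
        have hk0 : J ^ k = ⊥ := le_bot_iff.1 ((Ideal.pow_le_pow_right (by omega : n ≤ k)).trans hn.le)
        rw [hk0, Ideal.map_bot, Ideal.mem_bot] at hb
        rw [show b = 0 from Subtype.ext hb]
        exact zero_mem _
      | succ d ih =>
        intro k hk b hb
        obtain ⟨v, hv⟩ := PF.exists_gr k hb
        obtain ⟨z, -, hz⟩ := hgrad k v _ hv (by rw [hi b]; exact zero_mem _)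
        have h4 := ih (k + 1) (by omega) (mu J k B z - b) hz
        have := sub_mem (mu_mem k z) (Ideal.map_mono (Ideal.pow_le_pow_right (Nat.le_succ k)) h4)
        simpa using this
    exact fun k => key n k (by omega)
  refine ⟨B, hdesc, hsurj, hpure, fun k v hv => ?_⟩
  obtain ⟨n, hn, hn'⟩ := hgrad k v 0 (by rw [hv, map_zero]) (by simp)
  exact ⟨n, hn, hpure (k + 1) _ (by simpa using hn')⟩

end Groth.Agent.RigLift7
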