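import Groth.Agent.Lib.RigLift7.Split
import Groth.Agent.Lib.RigLift7.Amitsur
import Groth.Agent.Lib.RigLift7.Core

/-! The equalizer of the two lifts. -/

set_option autoImplicit false
set_option linter.style.haveILetI false
universe u

open TensorProduct

namespace Groth.Agent.RigLift7

variable {A : Type u} [CommRing A] {I J : Ideal A}

theorem tensor_prod_eq_zero {X Y M : Type u} [AddCommGroup X] [AddCommGroup Y] [AddCommGroup M] [Module A X]
    [Module A Y] [Module A M] (t : (X × Y) ⊗[A] M) (h1 : (LinearMap.fst A X Y).rTensor M t = 0)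
    (h2 : (LinearMap.snd A X Y).rTensor M t = 0) : t = 0 := by
  have e : t = (LinearMap.inl A X Y).rTensor M ((LinearMap.fst A X Y).rTensor M t) +
      (LinearMap.inr A X Y).rTensor M ((LinearMap.snd A X Y).rTensor M t) := by
    rw [← LinearMap.rTensor_comp_apply, ← LinearMap.rTensor_comp_apply, ← LinearMap.add_apply,
      ← LinearMap.rTensor_add]
    have : (LinearMap.inl A X Y).comp (LinearMap.fst A X Y) + (LinearMap.inr A X Y).comp (LinearMap.snd A X Y) =
        LinearMap.id := by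
      refine LinearMap.ext fun x => ?_
      ext <;> simp
    rw [this, LinearMap.rTensor_id, LinearMap.id_apply]
  rw [e, h1, h2, map_zero, map_zero, add_zero]

/-- Transport of a presentation along an isomorphism. -/
def Pres.trans {X R R' : Type u} [CommRing X] [CommRing R] [CommRing R'] [Algebra A X] [Algebra A R] [Algebra A R']
    (P : Pres J X R) (e : R ≃ₐ[A] R') : Pres J X R' where
  π := e.toAlgHom.comp P.π
  surj := e.surjective.comp P.surj
  ker := by
    rw [← P.ker]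
    ext x
    exact e.injective.eq_iff' (map_zero _)

/-- Restriction of scalars to `A`. -/
abbrev lin (A : Type u) [CommRing A] {B₀ U V : Type u} [CommRing B₀] [CommRing U] [CommRing V] [Algebra A B₀]
    [Algebra B₀ U] [Algebra B₀ V] [Algebra A U] [Algebra A V] [IsScalarTower A B₀ U] [IsScalarTower A B₀ V]
    (f : U →ₐ[B₀] V) : U →ₗ[A] V :=
  f.toLinearMap.restrictScalars A

theorem zero_of_split {C C₀ W W₀ R : Type u} [CommRing C] [CommRing C₀] [CommRing W] [CommRing W₀] [CommRing R]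
    [Algebra A C] [Algebra A C₀] [Algebra A W] [Algebra A W₀] [Algebra A R] [Module.Flat A W]
    (PC : Pres J C C₀) (PW : Pres J W W₀) (e : R ≃ₐ[A] C₀ × W₀) (PR : Pres J (C × W) R)
    (hPR : ∀ x, PR.π x = e.symm ((PC.prod PW).π x)) (M : R →ₗ[A] C₀) (hM : ∀ r, M r = (e r).1)
    (k : ℕ) (t : R ⊗[A] ↥(J ^ k)) (h1 : M.rTensor _ t = 0) (h2 : PR.gr k t = 0) : t = 0 := by
  have hinjE : Function.Injective (e.toLinearMap.rTensor ↥(J ^ k)) :=
    (e.toLinearEquiv.rTensor ↥(J ^ k)).injective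
  refine hinjE ?_
  rw [map_zero]
  refine tensor_prod_eq_zero _ ?_ (PW.gr_injective k ?_)
  · rw [← LinearMap.rTensor_comp_apply, ← h1]
    congr 2
    exact LinearMap.ext fun r => (hM r).symm
  · rw [map_zero, ← LinearMap.rTensor_comp_apply,
      PR.gr_nat k PW (AlgHom.snd A C W) (LinearMap.snd A C₀ W₀ ∘ₗ e.toLinearMap) (fun x => by
        show PW.π x.2 = (e (PR.π x)).2
        rw [hPR, e.apply_symm_apply]; rfl) t 0 (by rw [h2, map_zero]), map_zero, map_zero]

theorem lift_of_split {C C₀ W W₀ R : Type u} [CommRing C] [CommRing C₀] [CommRing W] [CommRing W₀] [CommRing R]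
    [Algebra A C] [Algebra A C₀] [Algebra A W] [Algebra A W₀] [Algebra A R]
    (PC : Pres J C C₀) (PW : Pres J W W₀) (e : R ≃ₐ[A] C₀ × W₀) (PR : Pres J (C × W) R)
    (hPR : ∀ x, PR.π x = e.symm ((PC.prod PW).π x)) (M : R →ₗ[A] C₀) (hM : ∀ r, M r = (e r).1)
    (k : ℕ) (x : C × W) (hx : x ∈ (J ^ k).map (algebraMap A (C × W))) (h1 : x.1 = 0) :
    ∃ u : R ⊗[A] ↥(J ^ k), PR.gr k u = Ideal.Quotient.mk _ x ∧ M.rTensor _ u = 0 := by
  obtain ⟨uw, huw⟩ := PW.exists_gr k (map_mem_map _ (AlgHom.snd A C W).toLinearMap hx)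
  refine ⟨(e.symm.toLinearMap).rTensor ↥(J ^ k) ((LinearMap.inr A C₀ W₀).rTensor _ uw),
    (PC.prod PW).gr_nat k PR (AlgHom.id A (C × W)) e.symm.toLinearMap hPR _ _ (prod_gr_eq k PC PW _ x ?_ ?_), ?_⟩
  · rw [← LinearMap.rTensor_comp_apply, LinearMap.fst_comp_inr, LinearMap.rTensor_zero,
      LinearMap.zero_apply, map_zero, h1, map_zero]
  · rw [← LinearMap.rTensor_comp_apply, LinearMap.snd_comp_inr, LinearMap.rTensor_id, LinearMap.id_apply]
    exact huw
  · rw [← LinearMap.rTensor_comp_apply, ← LinearMap.rTensor_comp_apply]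
    have : M.comp (e.symm.toLinearMap.comp (LinearMap.inr A C₀ W₀)) = 0 :=
      LinearMap.ext fun w => (hM _).trans (congrArg Prod.fst (e.apply_symm_apply ((0 : C₀), w)))
    rw [← LinearMap.comp_assoc] at this
    rw [this, LinearMap.rTensor_zero, LinearMap.zero_apply]

theorem exists_desc {B₀ F : Type u} [CommRing B₀] [CommRing F] [Algebra A B₀] [Algebra B₀ F] [Algebra A F]
    [IsScalarTower A B₀ F] [Module.FaithfullyFlat B₀ F] (f : F)
    (h : i2 B₀ F f = i1 B₀ F f) : ∃ b₀ : B₀, (Algebra.ofId B₀ F).restrictScalars A b₀ = f := by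
  obtain ⟨n, hn⟩ := exact0 (A := A) (M := A) (f ⊗ₜ[A] (1 : A)) (by
    rw [LinearMap.rTensor_tmul, LinearMap.rTensor_tmul]
    exact congrArg (· ⊗ₜ[A] (1 : A)) h)
  refine ⟨TensorProduct.rid A B₀ n, ?_⟩
  have := congrArg (TensorProduct.rid A F) hn
  rw [TensorProduct.rid_tmul, one_smul] at this
  rw [← this]
  clear this hn
  induction n using TensorProduct.induction_on with
  | zero => simp
  | tmul x a =>
    rw [LinearMap.rTensor_tmul, TensorProduct.rid_tmul, TensorProduct.rid_tmul, map_smul]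
    rfl
  | add x y hx hy => simp only [map_add, hx, hy]

variable {B₀ C₀ E₀ C E : Type u} [CommRing B₀] [CommRing C₀] [CommRing E₀] [CommRing C] [CommRing E]
  [Algebra A B₀] [Algebra A C₀] [Algebra A E₀] [Algebra A C] [Algebra A E] [Algebra (A ⧸ J) B₀]
  [IsScalarTower A (A ⧸ J) B₀] [Algebra B₀ C₀] [Algebra B₀ E₀] [IsScalarTower A B₀ C₀] [IsScalarTower A B₀ E₀]
  [Algebra.Etale B₀ C₀] [Algebra.Etale B₀ E₀] [Module.FaithfullyFlat B₀ (C₀ × E₀)]

/-- The glued thickening. -/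
theorem exists_glue (s : Set A) (hs : Ideal.span s = I)
    (hB₀ : ∀ a ∈ s, Algebra.Etale (A ⧸ J) (Localization.Away (algebraMap A B₀ a)))
    (hJ : IsNilpotent J)
    (hinj : ∀ b : B₀, algebraMap B₀ C₀ b ∈ I.map (algebraMap A C₀) → b ∈ I.map (algebraMap A B₀))
    (hF : SurjMod I B₀ (C₀ × E₀))
    (PC : Pres J C C₀) (PE : Pres J E E₀) (hRig : Rig I (C × E)) :
    ∃ B : Subalgebra A (C × E),
      (∀ b : B, ∃ b₀ : B₀, (PC.prod PE).π b = algebraMap B₀ (C₀ × E₀) b₀) ∧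
      (∀ b₀ : B₀, ∃ b : B, (PC.prod PE).π b = algebraMap B₀ (C₀ × E₀) b₀) ∧
      (∀ (k : ℕ) (b : B), (b : C × E) ∈ (J ^ k).map (algebraMap A (C × E)) → b ∈ (J ^ k).map (algebraMap A B)) ∧
      (∀ (k : ℕ) (κ : C₀ ⊗[A] ↥(J ^ k)), PC.gr k κ = 0 → ∃ n : B ⊗[A] ↥(J ^ k),
        (PC.π.toLinearMap ∘ₗ (LinearMap.fst A C E) ∘ₗ B.val.toLinearMap).rTensor _ n = κ ∧
        mu J k B n ∈ (J ^ (k + 1)).map (algebraMap A B)) := by
  let F := C₀ × E₀
  let F' := C × E
  let PF : Pres J F' F := PC.prod PE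
  haveI : Algebra.Etale B₀ F := etale_prod
  haveI : Algebra.Etale B₀ (F ⊗[B₀] F) := Algebra.Etale.comp B₀ F (F ⊗[B₀] F)
  haveI : Algebra.Etale B₀ (F ⊗[B₀] (F ⊗[B₀] F)) := Algebra.Etale.comp B₀ F _
  let f1 : F →ₐ[B₀] C₀ := AlgHom.fst B₀ C₀ E₀
  let m : F ⊗[B₀] F →ₐ[B₀] C₀ := Algebra.TensorProduct.lift f1 f1 fun _ _ => Commute.all _ _
  let m3 : F ⊗[B₀] (F ⊗[B₀] F) →ₐ[B₀] C₀ := Algebra.TensorProduct.lift f1 m fun _ _ => Commute.all _ _
  have hm1 : ∀ f, m (i1 B₀ F f) = f.1 := fun f => by simp [m, i1]; rfl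
  have hm2 : ∀ f, m (i2 B₀ F f) = f.1 := fun f => by simp [m, i2]; rfl
  have hm : Function.Surjective m := fun c => ⟨i1 B₀ F (c, 0), hm1 _⟩
  have h23 : ∀ z, m3 (p23 B₀ F z) = m z := fun z => by simp [m3, p23]
  have h13 : m3.comp (p13 B₀ F) = m := Algebra.TensorProduct.ext
    (AlgHom.ext fun x => by simp [m3, m, p13, f1]) (AlgHom.ext fun x => by simp [m3, m, p13, f1])
  have h12 : m3.comp (p12 B₀ F) = m := Algebra.TensorProduct.ext
    (AlgHom.ext fun x => by simp [m3, m, p12, f1]) (AlgHom.ext fun x => by simp [m3, m, p12, f1])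
  have hm3 : Function.Surjective m3 := fun c => (hm c).elim fun z hz => ⟨p23 B₀ F z, (h23 z).trans hz⟩
  obtain ⟨W₀, iW₀, aW₀, q, W, iW, aW, PW, hbij, hetW, hWtop⟩ :=
    exists_split s hs hB₀ hJ hinj (hF.tensor hF) m hm
  obtain ⟨W₃₀, iV₀, aV₀, q3, W3, iV, aV, PV, hbij3, hetV, hVtop⟩ :=
    exists_split s hs hB₀ hJ hinj (hF.tensor (hF.tensor hF)) m3 hm3
  let e := AlgEquiv.ofBijective _ hbij
  let e3 := AlgEquiv.ofBijective _ hbij3
  let X := C × W
  let X3 := C × W3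
  let PR : Pres J X (F ⊗[B₀] F) := (PC.prod PW).trans e.symm
  let PR3 : Pres J X3 (F ⊗[B₀] (F ⊗[B₀] F)) := (PC.prod PV).trans e3.symm
  have hR1 : ∀ x : X, m (PR.π x) = PC.π x.1 := fun x => congrArg Prod.fst (e.apply_symm_apply ((PC.prod PW).π x))
  have hR2 : ∀ x : X, q (PR.π x) = PW.π x.2 := fun x => congrArg Prod.snd (e.apply_symm_apply ((PC.prod PW).π x))
  have hS1 : ∀ x : X3, m3 (PR3.π x) = PC.π x.1 := fun x => congrArg Prod.fst (e3.apply_symm_apply ((PC.prod PV).π x))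
  have hS2 : ∀ x : X3, q3 (PR3.π x) = PV.π x.2 := fun x => congrArg Prod.snd (e3.apply_symm_apply ((PC.prod PV).π x))
  obtain ⟨s', hs'⟩ := hRig.exists_lift hWtop PW.π PW.surj (PW.nilpotent hJ)
    (q.comp (((i1 B₀ F).restrictScalars A).comp PF.π))
  obtain ⟨t', ht'⟩ := hRig.exists_lift hWtop PW.π PW.surj (PW.nilpotent hJ)
    (q.comp (((i2 B₀ F).restrictScalars A).comp PF.π))
  let S : F' →ₐ[A] X := (AlgHom.fst A C E).prod s'
  let T : F' →ₐ[A] X := (AlgHom.fst A C E).prod t'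
  have hS : ∀ x, PR.π (S x) = i1 B₀ F (PF.π x) := fun x => e.injective (Prod.ext
    ((hR1 (S x)).trans (hm1 (PF.π x)).symm) ((hR2 (S x)).trans (DFunLike.congr_fun hs' x)))
  have hT : ∀ x, PR.π (T x) = i2 B₀ F (PF.π x) := fun x => e.injective (Prod.ext
    ((hR1 (T x)).trans (hm2 (PF.π x)).symm) ((hR2 (T x)).trans (DFunLike.congr_fun ht' x)))
  have hface : ∀ p : F ⊗[B₀] F →ₐ[B₀] F ⊗[B₀] (F ⊗[B₀] F), (∀ z, m3 (p z) = m z) →
      ∃ P : X →ₐ[A] X3, (∀ x, PR3.π (P x) = p (PR.π x)) ∧ ∀ x, (P x).1 = x.1 := by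
    intro p hp
    haveI := hetW
    have hRX : Rig I W := rig_of_etale I W
    obtain ⟨p', hp'⟩ : ∃ p' : C × W →ₐ[A] W3, PV.π.comp p' = q3.comp ((p.restrictScalars A).comp PR.π) := by
      have hCrig : Rig I C := by
        intro U _ _ hU
        haveI := hRig U hU
        haveI : Algebra.Etale U ((U ⊗[A] C) × (U ⊗[A] E)) :=
          Algebra.Etale.of_equiv (Algebra.TensorProduct.prodRight A U U C E)
        let _ := (RingHom.fst (U ⊗[A] C) (U ⊗[A] E)).toAlgebra
        haveI : IsScalarTower U ((U ⊗[A] C) × (U ⊗[A] E)) (U ⊗[A] C) := IsScalarTower.of_algebraMap_eq fun _ => rfl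
        haveI : IsLocalization.Away ((1 : U ⊗[A] C), (0 : U ⊗[A] E)) (U ⊗[A] C) := by
          refine IsLocalization.away_of_isIdempotentElem (Prod.ext (one_mul _) (zero_mul _)) ?_ Prod.fst_surjective
          ext ⟨a, b⟩
          simp only [RingHom.mem_ker, Ideal.mem_span_singleton', RingHom.algebraMap_toAlgebra, RingHom.coe_fst]
          exact ⟨fun h => ⟨(0, b), by ext <;> simp [h]⟩, fun ⟨x, hx⟩ => (congrArg Prod.fst hx).symm.trans (by simp)⟩
        haveI : Algebra.Etale ((U ⊗[A] C) × (U ⊗[A] E)) (U ⊗[A] C) :=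
          Algebra.Etale.of_isLocalizationAway ((1 : U ⊗[A] C), (0 : U ⊗[A] E))
        exact Algebra.Etale.comp U ((U ⊗[A] C) × (U ⊗[A] E)) _
      exact (rig_prod hCrig hRX).exists_lift hVtop PV.π PV.surj (PV.nilpotent hJ) _
    refine ⟨(AlgHom.fst A C W).prod p', fun x => e3.injective (Prod.ext ?_ ?_), fun x => rfl⟩
    · exact (hS1 _).trans ((hR1 x).symm.trans (hp _).symm)
    · exact (hS2 _).trans (DFunLike.congr_fun hp' x)
  obtain ⟨P23, hP23, hP23'⟩ := hface (p23 B₀ F) h23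
  obtain ⟨P13, hP13, hP13'⟩ := hface (p13 B₀ F) (DFunLike.congr_fun h13)
  obtain ⟨P12, hP12, hP12'⟩ := hface (p12 B₀ F) (DFunLike.congr_fun h12)
  have huniq : ∀ G G' : F' →ₐ[A] X3, (∀ x, (G x).1 = (G' x).1) → (∀ x, PR3.π (G x) = PR3.π (G' x)) → G = G' := by
    intro G G' h1 h2
    have : (AlgHom.snd A C W3).comp G = (AlgHom.snd A C W3).comp G' :=
      hRig.ext hVtop PV.π (PV.nilpotent hJ) (AlgHom.ext fun x =>
        (hS2 (G x)).symm.trans ((congrArg q3 (h2 x)).trans (hS2 (G' x))))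
    exact AlgHom.ext fun x => Prod.ext (h1 x) (DFunLike.congr_fun this x)
  have c1 : P23.comp T = P13.comp T := huniq _ _ (fun x => (hP23' (T x)).trans (hP13' (T x)).symm) fun x => by
    rw [AlgHom.comp_apply, AlgHom.comp_apply, hP23, hP13, hT]
    simp [p23, p13, i2]
  have c2 : P23.comp S = P12.comp T := huniq _ _ (fun x => (hP23' (S x)).trans (hP12' (T x)).symm) fun x => by
    rw [AlgHom.comp_apply, AlgHom.comp_apply, hP23, hP12, hT, hS]
    simp [p23, p12, i1, i2]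
  have c3 : P13.comp S = P12.comp S := huniq _ _ (fun x => (hP13' (S x)).trans (hP12' (S x)).symm) fun x => by
    rw [AlgHom.comp_apply, AlgHom.comp_apply, hP13, hP12, hS]
    simp [p13, p12, i1]
  have hcoc : ∀ x, P23 (T x - S x) - P13 (T x - S x) + P12 (T x - S x) = 0 := fun x => by
    have a1 := DFunLike.congr_fun c1 x
    have a2 := DFunLike.congr_fun c2 x
    have a3 := DFunLike.congr_fun c3 x
    simp only [AlgHom.comp_apply] at a1 a2 a3
    simp only [map_sub, a1, a2, a3]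
    abel
  haveI := hetW
  haveI := hetV
  have hi : (lin A m).comp (lin A (i2 B₀ F)) = (lin A m).comp (lin A (i1 B₀ F)) :=
    LinearMap.ext fun f => (hm2 f).trans (hm1 f).symm
  obtain ⟨B, hdesc, hsurj, hpure, hgr⟩ := exists_equalizer (J := J) hJ PF PR PR3
    ((Algebra.ofId B₀ F).restrictScalars A)
    ((i1 B₀ F).toLinearMap.restrictScalars A) ((i2 B₀ F).toLinearMap.restrictScalars A)
    ((p23 B₀ F).toLinearMap.restrictScalars A) ((p13 B₀ F).toLinearMap.restrictScalars A)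
    ((p12 B₀ F).toLinearMap.restrictScalars A)
    (m.toLinearMap.restrictScalars A) (m3.toLinearMap.restrictScalars A)
    (fun b => ((i2 B₀ F).commutes b).trans ((i1 B₀ F).commutes b).symm) hi
    (LinearMap.ext h23) (LinearMap.ext fun z => DFunLike.congr_fun h13 z) (LinearMap.ext fun z => DFunLike.congr_fun h12 z)
    S T hS hT P23 P13 P12 hP23 hP13 hP12 hcoc
    (zero_of_split PC PW e PR (fun _ => rfl) _ fun _ => rfl)
    (zero_of_split PC PV e3 PR3 (fun _ => rfl) _ fun _ => rfl)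
    (fun k y hy => lift_of_split PC PW e PR (fun _ => rfl) _ (fun _ => rfl) k (T y - S y) hy (sub_self _))
    (fun f hf => exists_desc f hf) (fun k t ht => exact0 t ht) (fun k t ht => exact1 t ht)
  refine ⟨B, hdesc, hsurj, hpure, fun k κ hκ => ?_⟩
  let v := (LinearMap.inl A C₀ E₀).rTensor ↥(J ^ k) κ
  have hv : PF.gr k v = 0 := (prod_gr_eq k PC PE v 0
    (by rw [← LinearMap.rTensor_comp_apply, LinearMap.fst_comp_inl, LinearMap.rTensor_id, LinearMap.id_apply, hκ]; simp)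
    (by rw [← LinearMap.rTensor_comp_apply, LinearMap.snd_comp_inl, LinearMap.rTensor_zero, LinearMap.zero_apply,
      map_zero]; simp)).trans (map_zero _)
  obtain ⟨n, hn, hn'⟩ := hgr k v hv
  refine ⟨n, ?_, hn'⟩
  have e1 : PC.π.toLinearMap ∘ₗ LinearMap.fst A C E ∘ₗ B.val.toLinearMap =
      LinearMap.fst A C₀ E₀ ∘ₗ (PF.π.comp B.val).toLinearMap := rfl
  rw [e1, LinearMap.rTensor_comp_apply, hn, ← LinearMap.rTensor_comp_apply, LinearMap.fst_comp_inl,
    LinearMap.rTensor_id, LinearMap.id_apply]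

end Groth.Agent.RigLift7
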