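import Groth.Agent.Lib.RigLift7.Glue

/-! Étale lift of an approximation modulo a nilpotent ideal. -/

set_option autoImplicit false
set_option linter.style.haveILetI false
universe u

open TensorProduct

namespace Groth.Agent.RigLift7

variable {A : Type u} [CommRing A] {I J : Ideal A}

/-- Products of flat modules are flat. -/
theorem flat_prod {R : Type u} [CommRing R] {M N : Type u} [AddCommGroup M] [AddCommGroup N] [Module R M] [Module R N]
    [Module.Flat R M] [Module.Flat R N] : Module.Flat R (M × N) := by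
  rw [Module.Flat.iff_lTensor_preserves_injective_linearMap]
  intro A B _ _ _ _ f hf
  have key : (TensorProduct.prodLeft R R M N B).toLinearMap.comp (f.lTensor (M × N)) =
      ((f.lTensor M).prodMap (f.lTensor N)).comp (TensorProduct.prodLeft R R M N A).toLinearMap := by
    apply TensorProduct.ext'
    rintro ⟨m, n⟩ a
    simp
  intro x y hxy
  apply (TensorProduct.prodLeft R R M N A).injective
  exact Prod.map_injective.2 ⟨Module.Flat.lTensor_preserves_injective_linearMap f hf,
    Module.Flat.lTensor_preserves_injective_linearMap f hf⟩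
    ((LinearMap.congr_fun key x).symm.trans
      ((congrArg (TensorProduct.prodLeft R R M N B) hxy).trans (LinearMap.congr_fun key y)))

/-- The cover by a neighbourhood of `V(I)` and the principal opens `D(a)` is faithfully flat. -/
theorem faithfullyFlat_cover {B₀ C₀ E₀ : Type u} [CommRing B₀] [CommRing C₀] [CommRing E₀] [Algebra A B₀]
    [Algebra A C₀] [Algebra B₀ C₀] [IsScalarTower A B₀ C₀] [Algebra B₀ E₀] [Module.Flat B₀ C₀] [Module.Flat B₀ E₀]
    (s : Set A) (hs : Ideal.span s = I)
    (hsurj : ∀ c : C₀, ∃ b : B₀, algebraMap B₀ C₀ b - c ∈ I.map (algebraMap A C₀))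
    (hinj : ∀ b : B₀, algebraMap B₀ C₀ b ∈ I.map (algebraMap A C₀) → b ∈ I.map (algebraMap A B₀))
    (hE : ∀ a ∈ s, ∀ p : PrimeSpectrum B₀, algebraMap A B₀ a ∉ p.asIdeal →
      p ∈ Set.range (PrimeSpectrum.comap (algebraMap B₀ E₀))) :
    Module.FaithfullyFlat B₀ (C₀ × E₀) := by
  haveI : Module.Flat B₀ (C₀ × E₀) := flat_prod
  refine Module.FaithfullyFlat.of_comap_surjective fun p => ?_
  by_cases hp : I.map (algebraMap A B₀) ≤ p.asIdeal
  · let qB := Ideal.Quotient.mk (I.map (algebraMap A C₀))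
    let φ : B₀ →+* C₀ ⧸ I.map (algebraMap A C₀) := qB.comp (algebraMap B₀ C₀)
    have hφ : Function.Surjective φ := fun x => by
      obtain ⟨c, rfl⟩ := Ideal.Quotient.mk_surjective x
      obtain ⟨b, hb⟩ := hsurj c
      exact ⟨b, Ideal.Quotient.eq.2 hb⟩
    have hker : RingHom.ker φ ≤ p.asIdeal := fun b hb =>
      hp (hinj b (Ideal.Quotient.eq_zero_iff_mem.1 hb))
    haveI : (p.asIdeal.map φ).IsPrime := Ideal.map_isPrime_of_surjective hφ hker
    have hcm : (p.asIdeal.map φ).comap φ = p.asIdeal := by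
      rw [Ideal.comap_map_of_surjective' φ hφ, sup_eq_left.2 hker]
    refine ⟨⟨(p.asIdeal.map φ).comap (qB.comp (RingHom.fst C₀ E₀)), inferInstance⟩, PrimeSpectrum.ext ?_⟩
    show ((p.asIdeal.map φ).comap (qB.comp (RingHom.fst C₀ E₀))).comap (algebraMap B₀ (C₀ × E₀)) = p.asIdeal
    rw [Ideal.comap_comap]
    exact hcm
  · obtain ⟨a, ha, hap⟩ : ∃ a ∈ s, algebraMap A B₀ a ∉ p.asIdeal := by
      by_contra hcon
      push Not at hcon
      exact hp (Ideal.map_le_iff_le_comap.2 (hs ▸ Ideal.span_le.2 fun a ha => hcon a ha))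
    obtain ⟨q, hq⟩ := hE a ha p hap
    exact ⟨PrimeSpectrum.comap (RingHom.snd C₀ E₀) q, hq⟩

/-- The glued algebra is étale over `A` at a generator. -/
theorem etale_away {B B₀ E : Type u} [CommRing B] [CommRing B₀] [CommRing E] [Algebra A B] [Algebra A B₀]
    [Algebra A E] [Algebra.Etale A E] [Algebra (A ⧸ J) B₀] [IsScalarTower A (A ⧸ J) B₀] (hJ : IsNilpotent J)
    (β : Pres J B B₀) (a : A) [Algebra.Etale (A ⧸ J) (Localization.Away (algebraMap A B₀ a))]
    (f : B →ₐ[A] E) (ev : E →ₐ[A] Localization.Away (algebraMap A B₀ a))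
    (hev : ∀ b, ev (f b) = algebraMap B₀ (Localization.Away (algebraMap A B₀ a)) (β.π b)) :
    Algebra.Etale A (Localization.Away (algebraMap A B a)) := by
  let Ba := Localization.Away (algebraMap A B a)
  let B0a := Localization.Away (algebraMap A B₀ a)
  have hu0 : IsUnit (algebraMap A B0a a) := by
    rw [IsScalarTower.algebraMap_apply A B₀ B0a]; exact IsLocalization.Away.algebraMap_isUnit _
  have hua : IsUnit (algebraMap A Ba a) := by
    rw [IsScalarTower.algebraMap_apply A B Ba]; exact IsLocalization.Away.algebraMap_isUnit _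
  have hunit : ∀ y : Submonoid.powers (algebraMap A B a),
      IsUnit (((IsScalarTower.toAlgHom A B₀ B0a).comp β.π) y) := by
    rintro ⟨_, n, rfl⟩
    show IsUnit (((IsScalarTower.toAlgHom A B₀ B0a).comp β.π) (algebraMap A B a ^ n))
    rw [map_pow, AlgHom.commutes]
    exact hu0.pow n
  let πa : Ba →ₐ[A] B0a := IsLocalization.liftAlgHom hunit
  have hπa : ∀ b, πa (algebraMap B Ba b) = algebraMap B₀ B0a (β.π b) := fun b => IsLocalization.lift_eq _ b
  have hsurj : Function.Surjective πa := by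
    intro x
    obtain ⟨⟨b, _, n, rfl⟩, hb⟩ := IsLocalization.surj (Submonoid.powers (algebraMap A B₀ a)) x
    obtain ⟨b', rfl⟩ := β.surj b
    obtain ⟨v, hv⟩ := hua
    refine ⟨algebraMap B Ba b' * (↑v⁻¹ : Ba) ^ n, (hu0.pow n).mul_left_injective ?_⟩
    show πa _ * algebraMap A B0a a ^ n = x * algebraMap A B0a a ^ n
    conv_rhs => rw [IsScalarTower.algebraMap_apply A B₀ B0a, ← map_pow]; erw [hb]
    rw [← πa.commutes, ← map_pow, ← map_mul, mul_assoc, ← mul_pow, ← hv, Units.inv_mul, one_pow, mul_one, hπa]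
  have hker : RingHom.ker (πa : Ba →+* B0a) = J.map (algebraMap A Ba) := by
    refine le_antisymm (fun z hz => ?_) (Ideal.map_le_iff_le_comap.2 fun j hj => ?_)
    · obtain ⟨⟨b, y⟩, hb⟩ := IsLocalization.surj (Submonoid.powers (algebraMap A B a)) z
      have h0 : algebraMap B₀ B0a (β.π b) = 0 := by
        rw [← hπa, ← hb, map_mul, show πa z = 0 from hz, zero_mul]
      obtain ⟨⟨_, i, rfl⟩, hi⟩ := (IsLocalization.map_eq_zero_iff (Submonoid.powers (algebraMap A B₀ a)) B0a _).1 h0
      have hb' : algebraMap A B a ^ i * b ∈ J.map (algebraMap A B) := by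
        rw [β.mem_iff, map_mul, map_pow, AlgHom.commutes]; exact hi
      have h1 := map_mem_map J (IsScalarTower.toAlgHom A B Ba).toLinearMap hb'
      simp only [AlgHom.toLinearMap_apply, IsScalarTower.coe_toAlgHom', map_mul, map_pow] at h1
      rw [← IsScalarTower.algebraMap_apply, Ideal.unit_mul_mem_iff_mem _ (hua.pow i), ← hb,
        Ideal.mul_unit_mem_iff_mem _ (IsLocalization.map_units Ba y)] at h1
      exact h1
    · show πa (algebraMap A Ba j) = 0
      rw [πa.commutes, IsScalarTower.algebraMap_apply A (A ⧸ J) B0a, Ideal.Quotient.algebraMap_eq,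
        Ideal.Quotient.eq_zero_iff_mem.2 hj, map_zero]
  let Pa : Pres J Ba B0a := ⟨πa, hsurj, hker⟩
  obtain ⟨U, iU, aU, hU, ⟨PU⟩⟩ := exists_etale_lift (J := J) B0a
  obtain ⟨g, hg⟩ := exists_lift πa hsurj (Pa.nilpotent hJ) PU.π
  have hgs : Function.Surjective g := surjective_of_mod hJ g fun y => by
    obtain ⟨x, hx⟩ := PU.surj (πa y)
    exact ⟨x, (Pa.mem_iff _).2 (by rw [map_sub, sub_eq_zero, ← hx]; exact (DFunLike.congr_fun hg x).symm)⟩
  obtain ⟨ρ, hρ⟩ := exists_lift PU.π PU.surj (PU.nilpotent hJ) ev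
  have hUu : IsUnit (algebraMap A U a) := by
    rw [← Ideal.span_singleton_eq_top, ← Set.image_singleton, ← Ideal.map_span]
    refine PU.top hJ ?_
    rw [Ideal.map_span, Set.image_singleton, Ideal.span_singleton_eq_top]
    exact hu0
  have hunitU : ∀ y : Submonoid.powers (algebraMap A B a), IsUnit ((ρ.comp f) y) := by
    rintro ⟨_, n, rfl⟩
    show IsUnit ((ρ.comp f) (algebraMap A B a ^ n))
    rw [map_pow, AlgHom.commutes]
    exact hUu.pow n
  let τ : Ba →ₐ[A] U := IsLocalization.liftAlgHom hunitU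
  have hτπ : ∀ x, PU.π (τ x) = πa x := by
    have : (PU.π.comp τ).toRingHom = πa.toRingHom := by
      refine IsLocalization.ringHom_ext (Submonoid.powers (algebraMap A B a)) (RingHom.ext fun b => ?_)
      show PU.π (τ (algebraMap B Ba b)) = πa (algebraMap B Ba b)
      rw [hπa, ← hev, show τ (algebraMap B Ba b) = ρ (f b) from IsLocalization.lift_eq _ b]
      exact DFunLike.congr_fun hρ (f b)
    exact DFunLike.congr_fun this
  have hid : τ.comp g = AlgHom.id A U := Algebra.FormallyUnramified.lift_unique' PU.π (PU.nilpotent hJ) _ _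
    (AlgHom.ext fun x => (hτπ (g x)).trans (DFunLike.congr_fun hg x))
  exact Algebra.Etale.of_equiv (AlgEquiv.ofBijective g ⟨fun x y hxy => by
    simpa using (DFunLike.congr_fun hid x).symm.trans ((congrArg τ hxy).trans (DFunLike.congr_fun hid y)), hgs⟩)

/-- `B → C` is étale. -/
theorem etale_of_graded {B B₀ C : Type u} [CommRing B] [CommRing B₀] [CommRing C] [Algebra A B] [Algebra A B₀]
    [Algebra A C] [Algebra B C] [IsScalarTower A B C] [Algebra B₀ (C ⧸ J.map (algebraMap A C))]
    [Algebra.Etale B₀ (C ⧸ J.map (algebraMap A C))] (hJ : IsNilpotent J) (β : Pres J B B₀)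
    (hβ : ∀ b, algebraMap B₀ (C ⧸ J.map (algebraMap A C)) (β.π b) = Ideal.Quotient.mk _ (algebraMap B C b))
    (PC : Pres J C (C ⧸ J.map (algebraMap A C))) (hPC : PC.π = Ideal.Quotient.mkₐ A _)
    (hgr : ∀ (k : ℕ) (κ : (C ⧸ J.map (algebraMap A C)) ⊗[A] ↥(J ^ k)), PC.gr k κ = 0 → ∃ n : B ⊗[A] ↥(J ^ k),
      (PC.π.comp (IsScalarTower.toAlgHom A B C)).toLinearMap.rTensor _ n = κ ∧
        mu J k B n ∈ (J ^ (k + 1)).map (algebraMap A B)) :
    Algebra.Etale B C := by
  let C₀ := C ⧸ J.map (algebraMap A C)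
  let K : Ideal B := J.map (algebraMap A B)
  let qe : B ⧸ K →+* B₀ := Ideal.Quotient.lift K (β.π : B →+* B₀) fun b hb => (β.mem_iff b).1 hb
  have hqe : Function.Bijective qe := by
    refine ⟨(injective_iff_map_eq_zero _).2 fun x hx => ?_, fun b => ?_⟩
    · obtain ⟨b, rfl⟩ := Ideal.Quotient.mk_surjective x
      exact Ideal.Quotient.eq_zero_iff_mem.2 ((β.mem_iff b).2 hx)
    · obtain ⟨b', rfl⟩ := β.surj b
      exact ⟨Ideal.Quotient.mk K b', rfl⟩
  letI : Algebra (B ⧸ K) C₀ := ((algebraMap B₀ C₀).comp qe).toAlgebra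
  haveI : IsScalarTower B (B ⧸ K) C₀ := IsScalarTower.of_algebraMap_eq fun b => (hβ b).symm
  haveI : Algebra.Etale (B ⧸ K) C₀ := by
    rw [← RingHom.etale_algebraMap]
    exact RingHom.Etale.stableUnderComposition qe _ (RingHom.Etale.of_bijective hqe)
      (RingHom.etale_algebraMap.2 inferInstance)
  obtain ⟨Ct, iCt, aCt, hCt, ⟨P⟩⟩ := exists_etale_lift (A := B) (J := K) C₀
  letI : Algebra A Ct := ((algebraMap B Ct).comp (algebraMap A B)).toAlgebra
  haveI : IsScalarTower A B Ct := IsScalarTower.of_algebraMap_eq fun _ => rfl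
  let PA : Pres J Ct C₀ := ⟨P.π.restrictScalars A, P.surj, by
    show RingHom.ker (P.π : Ct →+* C₀) = _
    rw [P.ker, Ideal.map_map, ← IsScalarTower.algebraMap_eq]⟩
  obtain ⟨g, hg⟩ := exists_lift (Ideal.Quotient.mkₐ B (J.map (algebraMap A C))) Ideal.Quotient.mk_surjective
    (by
      have h := Ideal.Quotient.mkₐ_ker B (J.map (algebraMap A C))
      rw [h]; exact isNilpotent_map _ hJ) P.π
  have hg' : ∀ x, PC.π (g x) = PA.π x := fun x => by rw [hPC]; exact DFunLike.congr_fun hg x
  have hgs : Function.Surjective (g.restrictScalars A) := surjective_of_mod hJ _ fun y => by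
    obtain ⟨x, hx⟩ := P.surj (Ideal.Quotient.mk _ y)
    exact ⟨x, Ideal.Quotient.eq.1 (hx.symm.trans (DFunLike.congr_fun hg x).symm)⟩
  have hginj : Function.Injective g := by
    refine (injective_iff_map_eq_zero g).2 fun z hz => ?_
    obtain ⟨m, hm⟩ := hJ
    have key : ∀ k, z ∈ (J ^ k).map (algebraMap A Ct) := by
      intro k
      induction k with
      | zero => rw [pow_zero, Ideal.one_eq_top, Ideal.map_top]; trivial
      | succ k ih =>
        obtain ⟨κ, hκ⟩ := PA.exists_gr k ih
        have h0 : PC.gr k κ = 0 := by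
          have := PA.gr_nat k PC (g.restrictScalars A) LinearMap.id hg' κ z hκ
          rw [LinearMap.rTensor_id, LinearMap.id_apply] at this
          rw [this]
          exact (congrArg (Ideal.Quotient.mk _) hz).trans (map_zero _)
        obtain ⟨n, hn, hn'⟩ := hgr k κ h0
        have h1 : κ = PA.π.toLinearMap.rTensor _ ((IsScalarTower.toAlgHom A B Ct).toLinearMap.rTensor ↥(J ^ k) n) := by
          rw [← hn, ← LinearMap.rTensor_comp_apply]
          congr 2
          refine LinearMap.ext fun b => ?_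
          show PC.π (algebraMap B C b) = P.π (algebraMap B Ct b)
          rw [P.π.commutes, hPC]
          rfl
        rw [h1, PA.gr_rTensor, ← mu_nat, Ideal.Quotient.eq] at hκ
        have h2 := sub_mem (map_mem_map _ (IsScalarTower.toAlgHom A B Ct).toLinearMap hn') hκ
        simpa using h2
    have h := key m
    rwa [hm, Ideal.zero_eq_bot, Ideal.map_bot, Ideal.mem_bot] at h
  exact Algebra.Etale.of_equiv (AlgEquiv.ofBijective g ⟨hginj, hgs⟩)

end Groth.Agent.RigLift7
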