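import Groth.Agent.Lib.RigLift7.Thick
import Groth.Agent.Lib.Hens.EtaleLift

/-! Splitting off the diagonal, and lifting the rest. -/

set_option autoImplicit false
set_option linter.style.haveILetI false
universe u

open TensorProduct

namespace Groth.Agent.RigLift7

variable {A : Type u} [CommRing A] {I J : Ideal A}

/-- Étale algebras over `A ⧸ J` lift to `A`. -/
theorem exists_etale_lift (R : Type u) [CommRing R] [Algebra A R] [Algebra (A ⧸ J) R] [IsScalarTower A (A ⧸ J) R]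
    [Algebra.Etale (A ⧸ J) R] :
    ∃ (W : Type u) (_ : CommRing W) (_ : Algebra A W), Algebra.Etale A W ∧ Nonempty (Pres J W R) := by
  obtain ⟨W, i1, i2, he, φ, hφ, hker⟩ := Groth.Agent.Hens.exists_etale_lift A J R
  exact ⟨W, i1, i2, he, ⟨⟨φ, hφ, hker⟩⟩⟩

variable {B₀ C₀ : Type u} [CommRing B₀] [CommRing C₀] [Algebra A B₀] [Algebra A C₀] [Algebra (A ⧸ J) B₀]
  [IsScalarTower A (A ⧸ J) B₀] [Algebra B₀ C₀] [IsScalarTower A B₀ C₀]

/-- Everything is congruent to an element of `B₀` modulo `I`. -/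
def SurjMod (I : Ideal A) (B₀ : Type u) [CommRing B₀] (X : Type u) [CommRing X] [Algebra A X] [Algebra B₀ X] : Prop :=
  ∀ x : X, ∃ b : B₀, x - algebraMap B₀ X b ∈ I.map (algebraMap A X)

theorem SurjMod.tensor {X Y : Type u} [CommRing X] [CommRing Y] [Algebra B₀ X] [Algebra B₀ Y] [Algebra A X]
    [Algebra A Y] [IsScalarTower A B₀ X] [IsScalarTower A B₀ Y] (hX : SurjMod I B₀ X) (hY : SurjMod I B₀ Y) :
    SurjMod I B₀ (X ⊗[B₀] Y) := by
  intro z
  induction z using TensorProduct.induction_on with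
  | zero => exact ⟨0, by simp⟩
  | add a b ha hb =>
    obtain ⟨ba, ha⟩ := ha
    obtain ⟨bb, hb⟩ := hb
    exact ⟨ba + bb, by rw [map_add, add_sub_add_comm]; exact add_mem ha hb⟩
  | tmul x y =>
    obtain ⟨bx, hx⟩ := hX x
    obtain ⟨byy, hy⟩ := hY y
    refine ⟨bx * byy, ?_⟩
    have hy' := map_mem_map I ((Algebra.TensorProduct.includeRight : Y →ₐ[B₀] X ⊗[B₀] Y).toLinearMap.restrictScalars A) hy
    have hx' := map_mem_map I ((Algebra.TensorProduct.includeLeft : X →ₐ[B₀] X ⊗[B₀] Y).toLinearMap.restrictScalars A) hx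
    simp only [LinearMap.restrictScalars_apply, AlgHom.toLinearMap_apply, map_sub, AlgHom.commutes] at hx' hy'
    have e : x ⊗ₜ[B₀] y - algebraMap B₀ (X ⊗[B₀] Y) (bx * byy) =
        (x ⊗ₜ[B₀] 1) * ((1 : X) ⊗ₜ[B₀] y - algebraMap B₀ (X ⊗[B₀] Y) byy) +
          (x ⊗ₜ[B₀] 1 - algebraMap B₀ (X ⊗[B₀] Y) bx) * algebraMap B₀ (X ⊗[B₀] Y) byy := by
      rw [mul_sub, sub_mul, ← map_mul, Algebra.TensorProduct.tmul_mul_tmul, mul_one, one_mul]; ring
    rw [e]
    exact add_mem (Ideal.mul_mem_left _ _ hy') (Ideal.mul_mem_right _ _ hx')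

/-- The split. -/
theorem exists_split (s : Set A) (hs : Ideal.span s = I)
    (hB₀ : ∀ a ∈ s, Algebra.Etale (A ⧸ J) (Localization.Away (algebraMap A B₀ a)))
    (hJ : IsNilpotent J)
    (hinj : ∀ b : B₀, algebraMap B₀ C₀ b ∈ I.map (algebraMap A C₀) → b ∈ I.map (algebraMap A B₀))
    {R : Type u} [CommRing R] [Algebra B₀ R] [Algebra A R] [IsScalarTower A B₀ R] [Algebra.Etale B₀ R]
    [Algebra.Etale B₀ C₀] (hR : SurjMod I B₀ R) (m : R →ₐ[B₀] C₀) (hm : Function.Surjective m) :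
    ∃ (W₀ : Type u) (_ : CommRing W₀) (_ : Algebra A W₀) (q : R →ₐ[A] W₀)
      (W : Type u) (_ : CommRing W) (_ : Algebra A W) (_ : Pres J W W₀),
      Function.Bijective ((m.restrictScalars A).prod q) ∧ Algebra.Etale A W ∧ I.map (algebraMap A W) = ⊤ := by
  obtain ⟨e, he, hek⟩ : ∃ e, IsIdempotentElem e ∧ RingHom.ker (m : R →+* C₀) = R ∙ e := by
    letI : Algebra R C₀ := m.toRingHom.toAlgebra
    haveI : IsScalarTower B₀ R C₀ := IsScalarTower.of_algebraMap_eq fun b => (m.commutes b).symm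
    haveI : Algebra.Etale R C₀ := Algebra.Etale.of_restrictScalars (R := B₀) (A := R) (B := C₀)
    exact (Ideal.isIdempotentElem_iff_of_fg _
      (Algebra.FinitePresentation.ker_fG_of_surjective (Algebra.ofId R C₀) hm)).1
      ((Algebra.FormallyEtale.iff_of_surjective (R := R) (S := C₀) hm).1 inferInstance)
  have hme : m e = 0 := by
    have : e ∈ RingHom.ker (m : R →+* C₀) := by rw [hek]; exact Submodule.mem_span_singleton_self e
    exact this
  have heI : e ∈ I.map (algebraMap A R) := by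
    obtain ⟨b, hb⟩ := hR e
    have h1 : m e - algebraMap B₀ C₀ b ∈ I.map (algebraMap A C₀) := by
      have := map_mem_map I (m.toLinearMap.restrictScalars A) hb
      simpa using this
    rw [hme, zero_sub, neg_mem_iff] at h1
    have h2 := map_mem_map I ((Algebra.linearMap B₀ R).restrictScalars A) (hinj b h1)
    simpa using add_mem hb h2
  let K : Ideal R := Ideal.span {1 - e}
  let W₀ := R ⧸ K
  have hq1 : Ideal.Quotient.mk K e = 1 := by
    rw [← map_one (Ideal.Quotient.mk K), Ideal.Quotient.eq]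
    exact Ideal.mem_span_singleton'.2 ⟨-1, by ring⟩
  have hW₀top : I.map (algebraMap A W₀) = ⊤ := by
    rw [Ideal.eq_top_iff_one, ← hq1]
    exact map_mem_map I (Ideal.Quotient.mkₐ A K).toLinearMap heI
  haveI : IsLocalization.Away e W₀ :=
    IsLocalization.away_of_isIdempotentElem he Ideal.mk_ker Ideal.Quotient.mk_surjective
  haveI : Algebra.Etale B₀ W₀ := by
    haveI : Algebra.Etale R W₀ := Algebra.Etale.of_isLocalizationAway e
    exact Algebra.Etale.comp B₀ R W₀
  letI : Algebra (A ⧸ J) W₀ := ((algebraMap B₀ W₀).comp (algebraMap (A ⧸ J) B₀)).toAlgebra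
  haveI : IsScalarTower (A ⧸ J) B₀ W₀ := IsScalarTower.of_algebraMap_eq fun _ => rfl
  haveI : IsScalarTower A (A ⧸ J) W₀ := IsScalarTower.of_algebraMap_eq fun a => by
    rw [IsScalarTower.algebraMap_apply A B₀ W₀, IsScalarTower.algebraMap_apply A (A ⧸ J) B₀,
      ← IsScalarTower.algebraMap_apply (A ⧸ J) B₀ W₀]
  haveI : Algebra.Etale (A ⧸ J) W₀ := by
    refine etale_of_span ((algebraMap A W₀) '' s) ?_ ?_
    · rw [← hW₀top, ← hs, Ideal.map_span]
    · rintro _ ⟨a, ha, rfl⟩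
      haveI := hB₀ a ha
      let Ba := Localization.Away (algebraMap A B₀ a)
      letI : Algebra W₀ (Ba ⊗[B₀] W₀) := Algebra.TensorProduct.rightAlgebra
      haveI : Algebra.Etale (A ⧸ J) (Ba ⊗[B₀] W₀) := Algebra.Etale.comp (A ⧸ J) Ba _
      refine ⟨Ba ⊗[B₀] W₀, inferInstance, inferInstance, inferInstance, ?_, ?_, inferInstance⟩
      · exact IsScalarTower.of_algebraMap_eq fun x => by
          show algebraMap (A ⧸ J) (Ba ⊗[B₀] W₀) x = (1 : Ba) ⊗ₜ[B₀] algebraMap (A ⧸ J) W₀ x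
          rw [IsScalarTower.algebraMap_apply (A ⧸ J) B₀ W₀, ← Algebra.TensorProduct.includeRight_apply, AlgHom.commutes,
            ← IsScalarTower.algebraMap_apply]
      · rw [IsScalarTower.algebraMap_apply A B₀ W₀]
        infer_instance
  obtain ⟨W, i1, i2, het, ⟨P⟩⟩ := exists_etale_lift (J := J) W₀
  refine ⟨W₀, inferInstance, inferInstance, Ideal.Quotient.mkₐ A K, W, i1, i2, P, ⟨?_, ?_⟩, het, P.top hJ hW₀top⟩
  · refine (injective_iff_map_eq_zero _).2 fun z hz => ?_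
    obtain ⟨r, hr⟩ := Submodule.mem_span_singleton.1
      (hek ▸ (RingHom.mem_ker.2 (congrArg Prod.fst hz)) : z ∈ (R ∙ e))
    obtain ⟨r', hr'⟩ := Ideal.mem_span_singleton'.1 (Ideal.Quotient.eq_zero_iff_mem.1 (congrArg Prod.snd hz) : z ∈ K)
    rw [smul_eq_mul] at hr
    have h1 : z * e = z := by rw [← hr, mul_assoc, he.eq]
    rw [← h1, ← hr', mul_assoc, sub_mul, one_mul, he.eq, sub_self, mul_zero]
  · rintro ⟨c, w⟩
    obtain ⟨z1, rfl⟩ := hm c
    obtain ⟨z2, rfl⟩ := Ideal.Quotient.mk_surjective w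
    refine ⟨(1 - e) * z1 + e * z2, Prod.ext ?_ ?_⟩
    · show m ((1 - e) * z1 + e * z2) = m z1
      rw [map_add, map_mul, map_mul, map_sub, hme, map_one, sub_zero, one_mul, zero_mul, add_zero]
    · show Ideal.Quotient.mk K ((1 - e) * z1 + e * z2) = Ideal.Quotient.mk K z2
      rw [map_add, map_mul, map_mul, map_sub, hq1, map_one, sub_self, zero_mul, one_mul, zero_add]

end Groth.Agent.RigLift7
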