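import Groth.Agent.Lib.RigLift7.Basic

/-! Graded pieces of a nilpotent thickening. -/

set_option autoImplicit false
set_option linter.style.haveILetI false
universe u

open TensorProduct

namespace Groth.Agent.RigLift7

variable {A : Type u} [CommRing A] (J : Ideal A) (k : ℕ)

/-- A surjection whose kernel is contained in the extension of `J`. -/
structure Pres (X R : Type u) [CommRing X] [CommRing R] [Algebra A X] [Algebra A R] where
  π : X →ₐ[A] R
  surj : Function.Surjective π
  ker : RingHom.ker (π : X →+* R) = J.map (algebraMap A X)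

variable {J} {X R Y S : Type u} [CommRing X] [CommRing R] [Algebra A X] [Algebra A R]
  [CommRing Y] [CommRing S] [Algebra A Y] [Algebra A S]

theorem Pres.mem_iff (P : Pres J X R) (x : X) : x ∈ J.map (algebraMap A X) ↔ P.π x = 0 := by
  rw [← P.ker, RingHom.mem_ker]; rfl

theorem Pres.nilpotent (P : Pres J X R) (hJ : IsNilpotent J) : IsNilpotent (RingHom.ker (P.π : X →+* R)) := by
  rw [P.ker]; exact isNilpotent_map _ hJ

theorem Pres.top (P : Pres J X R) (hJ : IsNilpotent J) {I : Ideal A} (h : I.map (algebraMap A R) = ⊤) :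
    I.map (algebraMap A X) = ⊤ := by
  refine top_of_sup_nilpotent (isNilpotent_map (algebraMap A X) hJ) ?_
  rw [← P.ker]
  refine (Ideal.comap_map_of_surjective' (P.π : X →+* R) P.surj _).symm.trans ?_
  rw [Ideal.map_map]
  rw [show (P.π : X →+* R).comp (algebraMap A X) = algebraMap A R from RingHom.ext P.π.commutes, h, Ideal.comap_top]

theorem mul_mem_step {x : X} (hx : x ∈ J.map (algebraMap A X)) (j : ↥(J ^ k)) :
    (j : A) • x ∈ (J ^ (k + 1)).map (algebraMap A X) := by
  rw [pow_succ, Ideal.map_mul, Algebra.smul_def]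
  exact Ideal.mul_mem_mul (Ideal.mem_map_of_mem _ j.2) hx

/-- Multiplication. -/
noncomputable def mu (J : Ideal A) (k : ℕ) (X : Type u) [CommRing X] [Algebra A X] : X ⊗[A] ↥(J ^ k) →ₗ[A] X :=
  (TensorProduct.rid A X).toLinearMap ∘ₗ (Submodule.subtype (J ^ k)).lTensor X

@[simp] theorem mu_tmul (x : X) (j : ↥(J ^ k)) : mu J k X (x ⊗ₜ[A] j) = (j : A) • x := by
  simp [mu]

theorem mu_nat (f : X →ₐ[A] Y) (t : X ⊗[A] ↥(J ^ k)) : f (mu J k X t) = mu J k Y (f.toLinearMap.rTensor _ t) := by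
  induction t using TensorProduct.induction_on with
  | zero => simp
  | tmul x j => simp
  | add a b ha hb => simp only [map_add, ha, hb]

theorem mu_mem (t : X ⊗[A] ↥(J ^ k)) : mu J k X t ∈ (J ^ k).map (algebraMap A X) := by
  induction t using TensorProduct.induction_on with
  | zero => simp
  | tmul x j => rw [mu_tmul, Algebra.smul_def]; exact Ideal.mul_mem_right _ _ (Ideal.mem_map_of_mem _ j.2)
  | add a b ha hb => rw [map_add]; exact add_mem ha hb

theorem mu_mulLeft (r : X) (ta : X ⊗[A] ↥(J ^ k)) :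
    mu J k X ((LinearMap.mulLeft A r).rTensor _ ta) = r • mu J k X ta := by
  induction ta using TensorProduct.induction_on with
  | zero => simp
  | tmul x j => simp
  | add a b ha hb => simp only [map_add, smul_add, ha, hb]

theorem exists_mu {x : X} (hx : x ∈ (J ^ k).map (algebraMap A X)) : ∃ t, mu J k X t = x := by
  rw [Ideal.map] at hx
  induction hx using Submodule.span_induction with
  | mem z hz =>
    obtain ⟨j, hj, rfl⟩ := hz
    exact ⟨1 ⊗ₜ ⟨j, hj⟩, by simp [Algebra.algebraMap_eq_smul_one]⟩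
  | zero => exact ⟨0, map_zero _⟩
  | add a b _ _ ha hb => obtain ⟨ta, rfl⟩ := ha; obtain ⟨tb, rfl⟩ := hb; exact ⟨ta + tb, map_add _ _ _⟩
  | smul r a _ ha =>
    obtain ⟨ta, rfl⟩ := ha
    exact ⟨(LinearMap.mulLeft A r).rTensor _ ta, mu_mulLeft k r ta⟩

/-- The graded piece map. -/
noncomputable def Pres.gr (P : Pres J X R) : R ⊗[A] ↥(J ^ k) →ₗ[A] X ⧸ (J ^ (k + 1)).map (algebraMap A X) :=
  TensorProduct.lift (LinearMap.mk₂ A (fun r j => Ideal.Quotient.mk _ ((j : A) • Function.surjInv P.surj r))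
    (fun r r' j => by
      rw [← map_add, ← smul_add, Ideal.Quotient.eq, ← smul_sub]
      refine mul_mem_step k ((P.mem_iff _).2 ?_) j
      simp [Function.surjInv_eq P.surj])
    (fun a r j => by
      rw [← Ideal.Quotient.mkₐ_eq_mk A, ← map_smul, Ideal.Quotient.mkₐ_eq_mk, smul_comm a, Ideal.Quotient.eq,
        ← smul_sub]
      refine mul_mem_step k ((P.mem_iff _).2 ?_) j
      simp [Function.surjInv_eq P.surj])
    (fun r j j' => by rw [Submodule.coe_add, add_smul, map_add])
    (fun a r j => by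
      rw [← Ideal.Quotient.mkₐ_eq_mk A, ← map_smul, Submodule.coe_smul, smul_eq_mul, mul_smul]))

theorem Pres.gr_rTensor (P : Pres J X R) (t : X ⊗[A] ↥(J ^ k)) :
    P.gr k (P.π.toLinearMap.rTensor _ t) = Ideal.Quotient.mk _ (mu J k X t) := by
  induction t using TensorProduct.induction_on with
  | zero => simp
  | tmul x j =>
    rw [LinearMap.rTensor_tmul, mu_tmul]
    show Ideal.Quotient.mk _ ((j : A) • Function.surjInv P.surj (P.π x)) = _
    rw [Ideal.Quotient.eq, ← smul_sub]
    refine mul_mem_step k ((P.mem_iff _).2 ?_) j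
    simp [Function.surjInv_eq P.surj]
  | add a b ha hb => simp only [map_add, ha, hb]

theorem Pres.exists_tilde (P : Pres J X R) (t : R ⊗[A] ↥(J ^ k)) :
    ∃ t' : X ⊗[A] ↥(J ^ k), P.π.toLinearMap.rTensor _ t' = t :=
  LinearMap.rTensor_surjective _ P.surj t

/-- Naturality. -/
theorem Pres.gr_nat (P : Pres J X R) (Q : Pres J Y S) (f : X →ₐ[A] Y) (g : R →ₗ[A] S)
    (hfg : ∀ x, Q.π (f x) = g (P.π x)) (t : R ⊗[A] ↥(J ^ k)) (x : X)
    (ht : P.gr k t = Ideal.Quotient.mk _ x) : Q.gr k (g.rTensor _ t) = Ideal.Quotient.mk _ (f x) := by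
  obtain ⟨t', rfl⟩ := P.exists_tilde k t
  rw [P.gr_rTensor, Ideal.Quotient.eq] at ht
  have h1 : g.rTensor _ (P.π.toLinearMap.rTensor _ t') = Q.π.toLinearMap.rTensor _ (f.toLinearMap.rTensor ↥(J ^ k) t') := by
    rw [← LinearMap.rTensor_comp_apply, ← LinearMap.rTensor_comp_apply]
    congr 2
    exact LinearMap.ext fun x => (hfg x).symm
  rw [h1, Q.gr_rTensor, ← mu_nat, Ideal.Quotient.eq, ← map_sub]
  exact map_mem_map _ f.toLinearMap ht

theorem Pres.exists_gr (P : Pres J X R) {x : X} (hx : x ∈ (J ^ k).map (algebraMap A X)) :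
    ∃ t, P.gr k t = Ideal.Quotient.mk _ x := by
  obtain ⟨t, rfl⟩ := exists_mu k hx
  exact ⟨_, P.gr_rTensor k t⟩

/-- For a flat thickening the graded piece map is injective. -/
theorem Pres.gr_injective (P : Pres J X R) [Module.Flat A X] : Function.Injective (P.gr k) := by
  refine (injective_iff_map_eq_zero _).2 fun t ht => ?_
  obtain ⟨t', rfl⟩ := P.exists_tilde k t
  rw [P.gr_rTensor, Ideal.Quotient.eq_zero_iff_mem] at ht
  obtain ⟨u, hu⟩ := exists_mu (k + 1) ht
  let ι : ↥(J ^ (k + 1)) →ₗ[A] ↥(J ^ k) := Submodule.inclusion (Ideal.pow_le_pow_right (Nat.le_succ k))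
  have hι : ∀ v : X ⊗[A] ↥(J ^ (k + 1)), mu J k X (ι.lTensor X v) = mu J (k + 1) X v := fun v => by
    induction v using TensorProduct.induction_on with
    | zero => simp
    | tmul x j => rw [LinearMap.lTensor_tmul, mu_tmul, mu_tmul]; rfl
    | add a b ha hb => simp only [map_add, ha, hb]
  have hinj : Function.Injective (mu J k X) :=
    (TensorProduct.rid A X).injective.comp (Module.Flat.lTensor_preserves_injective_linearMap _ (Submodule.subtype_injective _))
  obtain rfl : t' = ι.lTensor X u := hinj (by rw [hι, hu])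
  clear ht hu
  induction u using TensorProduct.induction_on with
  | zero => simp
  | tmul x j =>
    rw [LinearMap.lTensor_tmul, LinearMap.rTensor_tmul]
    obtain ⟨j, hj⟩ := j
    have aux : ∀ z (hz : z ∈ J * J ^ k), P.π x ⊗ₜ[A] (⟨z, (Ideal.mul_le_right : J * J ^ k ≤ J ^ k) hz⟩ : ↥(J ^ k)) = 0 := by
      intro z hz
      induction hz using Submodule.mul_induction_on' with
      | mem_mul_mem a ha b hb =>
        have : (⟨a * b, (Ideal.mul_le_right : J * J ^ k ≤ J ^ k) (Ideal.mul_mem_mul ha hb)⟩ : ↥(J ^ k)) = a • ⟨b, hb⟩ :=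
          Subtype.ext rfl
        rw [this, TensorProduct.tmul_smul, TensorProduct.smul_tmul', ← map_smul,
          (P.mem_iff _).1 (by rw [Algebra.smul_def]; exact Ideal.mul_mem_right _ _ (Ideal.mem_map_of_mem _ ha)),
          TensorProduct.zero_tmul]
      | add a ha b hb iha ihb =>
        have e : (⟨a + b, (Ideal.mul_le_right : J * J ^ k ≤ J ^ k) (add_mem ha hb)⟩ : ↥(J ^ k)) =
          ⟨a, (Ideal.mul_le_right : J * J ^ k ≤ J ^ k) ha⟩ + ⟨b, (Ideal.mul_le_right : J * J ^ k ≤ J ^ k) hb⟩ := Subtype.ext rfl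
        rw [e, TensorProduct.tmul_add, iha, ihb, add_zero]
    exact aux j (by rwa [← pow_succ'])
  | add a b ha hb => simp only [map_add, ha, hb, add_zero]

/-- The product of two presentations. -/
def Pres.prod (P : Pres J X R) (Q : Pres J Y S) : Pres J (X × Y) (R × S) where
  π := (P.π.comp (AlgHom.fst A X Y)).prod (Q.π.comp (AlgHom.snd A X Y))
  surj := fun ⟨r, s⟩ => ⟨(Function.surjInv P.surj r, Function.surjInv Q.surj s),
    Prod.ext (Function.surjInv_eq P.surj r) (Function.surjInv_eq Q.surj s)⟩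
  ker := by
    ext ⟨x, y⟩
    rw [RingHom.mem_ker]
    constructor
    · intro h
      have hx : x ∈ J.map (algebraMap A X) := (P.mem_iff x).2 (congrArg Prod.fst h)
      have hy : y ∈ J.map (algebraMap A Y) := (Q.mem_iff y).2 (congrArg Prod.snd h)
      have := add_mem (map_mem_map J (LinearMap.inl A X Y) hx) (map_mem_map J (LinearMap.inr A X Y) hy)
      simpa using this
    · intro h
      exact Prod.ext ((P.mem_iff x).1 (map_mem_map J (LinearMap.fst A X Y) h))
        ((Q.mem_iff y).1 (map_mem_map J (LinearMap.snd A X Y) h))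

/-- Componentwise vanishing. -/
theorem prod_mk_eq {n : ℕ} (x x' : X × Y)
    (h1 : Ideal.Quotient.mk ((J ^ n).map (algebraMap A X)) x.1 = Ideal.Quotient.mk _ x'.1)
    (h2 : Ideal.Quotient.mk ((J ^ n).map (algebraMap A Y)) x.2 = Ideal.Quotient.mk _ x'.2) :
    Ideal.Quotient.mk ((J ^ n).map (algebraMap A (X × Y))) x = Ideal.Quotient.mk _ x' := by
  rw [Ideal.Quotient.eq] at h1 h2 ⊢
  have := add_mem (map_mem_map (J ^ n) (LinearMap.inl A X Y) h1) (map_mem_map (J ^ n) (LinearMap.inr A X Y) h2)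
  have e : x - x' = ((x.1 - x'.1, 0) : X × Y) + (0, x.2 - x'.2) := by
    ext <;> simp
  rw [e]
  exact this

theorem prod_gr_eq (P : Pres J X R) (Q : Pres J Y S) (t : (R × S) ⊗[A] ↥(J ^ k)) (x : X × Y)
    (h1 : P.gr k ((LinearMap.fst A R S).rTensor _ t) = Ideal.Quotient.mk _ x.1)
    (h2 : Q.gr k ((LinearMap.snd A R S).rTensor _ t) = Ideal.Quotient.mk _ x.2) :
    (P.prod Q).gr k t = Ideal.Quotient.mk _ x := by
  obtain ⟨y, hy⟩ := Ideal.Quotient.mk_surjective ((P.prod Q).gr k t)
  rw [← hy]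
  refine prod_mk_eq (J := J) y x ?_ ?_
  · rw [← h1]
    exact (Pres.gr_nat k (P.prod Q) P (AlgHom.fst A X Y) (LinearMap.fst A R S) (fun _ => rfl) t y hy.symm).symm
  · rw [← h2]
    exact (Pres.gr_nat k (P.prod Q) Q (AlgHom.snd A X Y) (LinearMap.snd A R S) (fun _ => rfl) t y hy.symm).symm

end Groth.Agent.RigLift7
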